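import Mathlib

/-!
# Groups acting on an elementary abelian 2-group: invariance, fixed spaces, a summation trick
-/

set_option autoImplicit false

namespace Cfsg.Agent.Grp.ExtPrimAffine

open MulAction Subgroup
open scoped Pointwise

variable {H : Type*} [Group H] {V : Type*} [AddCommGroup V] [DistribMulAction H V]

/-- `L` is invariant under `A`. -/
def Inv (A : Subgroup H) (L : AddSubgroup V) : Prop :=
  ∀ a ∈ A, ∀ v ∈ L, a • v ∈ L

/-- The fixed space of an element. -/
def fix (x : H) : AddSubgroup V where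
  carrier := {v | x • v = v}
  zero_mem' := smul_zero x
  add_mem' := fun {a b} (ha : x • a = a) (hb : x • b = b) =>
    show x • (a + b) = a + b by rw [smul_add, ha, hb]
  neg_mem' := fun {a} (ha : x • a = a) => show x • (-a) = -a by rw [smul_neg, ha]

@[simp] theorem mem_fix {x : H} {v : V} : v ∈ fix x ↔ x • v = v := Iff.rfl

theorem smul_mem_fix_of_comm {x y : H} (h : x * y = y * x) {v : V} (hv : v ∈ fix x) :
    y • v ∈ (fix x : AddSubgroup V) := by
  rw [mem_fix] at hv ⊢
  rw [smul_smul, h, mul_smul, hv]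

theorem mem_fix_conj (g x : H) (v : V) : v ∈ fix (g * x * g⁻¹) ↔ g⁻¹ • v ∈ (fix x : AddSubgroup V) := by
  rw [mem_fix, mem_fix, mul_smul, mul_smul]
  constructor
  · intro h
    conv_rhs => rw [← h, inv_smul_smul]
  · intro h
    rw [h, smul_inv_smul]

theorem pow_fix {x : H} {v : V} (h : x • v = v) (n : ℕ) : x ^ n • v = v := by
  induction n with
  | zero => rw [pow_zero, one_smul]
  | succ n ih => rw [pow_succ, mul_smul, h, ih]

/-- Invariance under two subgroups gives invariance under their join. -/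
theorem Inv.sup {A B : Subgroup H} {L : AddSubgroup V} (hA : Inv A L) (hB : Inv B L) :
    Inv (A ⊔ B) L := by
  have key : ∀ {C : Subgroup H}, Inv C L → C ≤ stabilizer H (L : Set V) := by
    intro C hC c hc
    rw [mem_stabilizer_set]
    intro v
    exact ⟨fun hv => by simpa using hC c⁻¹ (inv_mem hc) _ hv, fun hv => hC c hc v hv⟩
  intro a ha v hv
  exact (mem_stabilizer_set.1 (sup_le (key hA) (key hB) ha) v).2 hv

/-- A nonzero invariant subgroup contains a minimal one. -/
theorem exists_minimal_inv [Finite V] {A : Subgroup H} {L : AddSubgroup V} (hL : L ≠ ⊥)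
    (hA : Inv A L) : ∃ L0 : AddSubgroup V, L0 ≠ ⊥ ∧ L0 ≤ L ∧ Inv A L0 ∧
      ∀ K : AddSubgroup V, K ≤ L0 → Inv A K → K = ⊥ ∨ K = L0 := by
  haveI : Finite (AddSubgroup V) := Finite.of_injective _ SetLike.coe_injective
  obtain ⟨L0, hle, hm⟩ := (Set.toFinite {K : AddSubgroup V | K ≠ ⊥ ∧ Inv A K}).exists_le_minimal
    (a := L) ⟨hL, hA⟩
  refine ⟨L0, hm.prop.1, hle, hm.prop.2, fun K hK hKA => or_iff_not_imp_left.2 fun hne => ?_⟩
  exact le_antisymm hK (hm.le_of_le ⟨hne, hKA⟩ hK)

theorem add_eq_zero_iff_eq_two (hV : ∀ v : V, v + v = 0) {a b : V} : a + b = 0 ↔ a = b :=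
  ⟨fun h => add_right_cancel (h.trans (hV b).symm), fun h => h ▸ hV a⟩

theorem nsmul_odd (hV : ∀ v : V, v + v = 0) {r : ℕ} (hr : Odd r) (v : V) : r • v = v := by
  obtain ⟨k, rfl⟩ := hr
  rw [add_nsmul, one_nsmul, mul_nsmul, two_nsmul, hV, smul_zero, zero_add]

theorem fix_of_sq_fix {h : H} {v : V} {r : ℕ} (hr : Odd r) (hrv : h ^ r • v = v)
    (h2 : h ^ 2 • v = v) : h • v = v := by
  obtain ⟨k, rfl⟩ := hr
  have h3 : h ^ (2 * k) • v = v := by rw [pow_mul]; exact pow_fix h2 k
  calc h • v = h • (h ^ (2 * k) • v) := by rw [h3]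
    _ = h ^ (2 * k + 1) • v := by rw [smul_smul, ← pow_succ']
    _ = v := hrv

/-- An element of odd order on a subspace has no fixed vectors among the `h w + w`. -/
theorem eq_zero_of_fix_diff (hV : ∀ v : V, v + v = 0) {h : H} {w : V} {r : ℕ} (hr : Odd r)
    (hrw : h ^ r • w = w) (hz : h • (h • w + w) = h • w + w) : h • w + w = 0 := by
  rw [smul_add, add_comm] at hz
  have h2 : h ^ 2 • w = w := by
    rw [pow_two, mul_smul]
    exact add_left_cancel hz
  rw [fix_of_sq_fix hr hrw h2, hV]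

open Finset in
/-- Two commuting elements of the same odd prime order, the second without fixed vectors: some
`a * b ^ j` has a fixed vector. -/
theorem exists_fix_mul_pow (hV : ∀ v : V, v + v = 0) {a b : H} (hab : Commute a b) {r : ℕ}
    (hr : r.Prime) (hodd : Odd r) (Y : AddSubgroup V) (haY : ∀ v ∈ Y, a • v ∈ Y)
    (hbY : ∀ v ∈ Y, b • v ∈ Y) (har : ∀ v ∈ Y, a ^ r • v = v) (hbr : ∀ v ∈ Y, b ^ r • v = v)
    (hb : ∀ v ∈ Y, b • v = v → v = 0) {v : V} (hv : v ∈ Y) (hv0 : v ≠ 0) :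
    ∃ j : ℕ, ∃ w ∈ Y, w ≠ 0 ∧ (a * b ^ j) • w = w := by
  by_contra hcon
  push Not at hcon
  have hpY : ∀ {c : H}, (∀ u ∈ Y, c • u ∈ Y) → ∀ (n : ℕ), ∀ u ∈ Y, c ^ n • u ∈ Y := by
    intro c hc n
    induction n with
    | zero => intro u hu; rwa [pow_zero, one_smul]
    | succ n ih => intro u hu; rw [pow_succ, mul_smul]; exact ih _ (hc u hu)
  have hcyc : ∀ {c : H} {u : V}, c ^ r • u = u →
      c • (∑ i ∈ range r, c ^ i • u) = ∑ i ∈ range r, c ^ i • u := by
    intro c u hc
    rw [smul_sum]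
    simp only [smul_smul, ← pow_succ']
    have h1 := sum_range_succ (fun i => c ^ i • u) r
    have h2 := sum_range_succ' (fun i => c ^ i • u) r
    rw [hc] at h1
    rw [pow_zero, one_smul] at h2
    exact add_right_cancel (h2.symm.trans h1)
  have hcY : ∀ j, ∀ u ∈ Y, (a * b ^ j) • u ∈ Y := fun j u hu => by
    rw [mul_smul]; exact haY _ (hpY hbY j u hu)
  have hcr : ∀ j, (a * b ^ j) ^ r • v = v := fun j => by
    rw [(hab.pow_right j).mul_pow, mul_smul, ← pow_mul, mul_comm, pow_mul,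
      pow_fix (hbr v hv) j, har v hv]
  have hz : ∀ j, ∑ i ∈ range r, (a * b ^ j) ^ i • v = 0 := fun j => by
    by_contra hne
    exact hcon j _ (AddSubgroup.sum_mem _ fun i _ => hpY (hcY j) i v hv) hne (hcyc (hcr j))
  have hsum : ∑ i ∈ range r, ∑ j ∈ range r, (a * b ^ j) ^ i • v = 0 := by
    rw [sum_comm]; exact sum_eq_zero fun j _ => hz j
  rw [sum_eq_single 0] at hsum
  · simp only [pow_zero, one_smul, sum_const, card_range] at hsum
    exact hv0 (by rwa [nsmul_odd hV hodd] at hsum)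
  · intro i hi hi0
    have hu : a ^ i • v ∈ Y := hpY haY i v hv
    have hsw : ∀ j, (a * b ^ j) ^ i • v = (b ^ i) ^ j • (a ^ i • v) := fun j => by
      rw [(hab.pow_right j).mul_pow, ← pow_mul, (hab.pow_pow i (j * i)).eq, mul_smul, mul_comm j i,
        pow_mul]
    simp only [hsw]
    set u := a ^ i • v
    have hmem : ∑ j ∈ range r, (b ^ i) ^ j • u ∈ Y :=
      AddSubgroup.sum_mem _ fun j _ => hpY (hpY hbY i) j u hu
    apply hb _ hmem
    have hfix : b ^ i • (∑ j ∈ range r, (b ^ i) ^ j • u) = ∑ j ∈ range r, (b ^ i) ^ j • u :=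
      hcyc (by rw [← pow_mul, mul_comm, pow_mul]; exact pow_fix (hbr u hu) i)
    have hcop : Nat.Coprime i r := Nat.Coprime.symm ((Nat.Prime.coprime_iff_not_dvd hr).2 fun hd =>
      absurd (Nat.le_of_dvd (Nat.pos_of_ne_zero hi0) hd) (not_le.2 (mem_range.1 hi)))
    obtain ⟨m, -, hm⟩ := Nat.exists_mul_mod_eq_one_of_coprime hcop hr.one_lt
    have h1 := pow_fix hfix m
    rw [← pow_mul, ← Nat.div_add_mod (i * m) r, hm, pow_add, pow_one, mul_smul, pow_mul] at h1
    rwa [pow_fix (hbr _ (hbY _ hmem)) _] at h1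
  · intro h; exact absurd (mem_range.2 hr.pos) h

end Cfsg.Agent.Grp.ExtPrimAffine
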