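import Cfsg.Agent.Lib.Grp.ExtPrimAffine.Pair

/-!
# Pigeonhole on involutions: a pair cannot exist
-/

set_option autoImplicit false

universe u v

namespace Cfsg.Agent.Grp.ExtPrimAffine

open MulAction Subgroup
open scoped Pointwise

variable {H : Type u} [Group H] {V : Type v} [AddCommGroup V] [DistribMulAction H V]
  {T R : Subgroup H}

/-- An involution lies in a conjugate of any Sylow 2-subgroup contained in a subgroup containing it. -/
theorem exists_conj_sylow {G : Type*} [Group G] [Finite G] (S : Sylow 2 G) {K : Subgroup G}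
    (hSK : (S : Subgroup G) ≤ K) {y : G} (hy : y ∈ K) (hy2 : y * y = 1) :
    ∃ k ∈ K, ∃ s ∈ S, y = k * s * k⁻¹ := by
  haveI := Fact.mk Nat.prime_two
  let z : K := ⟨y, hy⟩
  have hz : IsPGroup 2 (Subgroup.zpowers z) := by
    rintro ⟨a, n, rfl⟩
    refine ⟨1, Subtype.ext ?_⟩
    show (z ^ n) ^ (2 ^ 1) = 1
    rw [pow_one, ← zpow_natCast, ← zpow_mul, mul_comm, zpow_mul, zpow_natCast, pow_two,
      show z * z = 1 from Subtype.ext hy2, one_zpow]
  obtain ⟨P, hP⟩ := hz.exists_le_sylow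
  obtain ⟨k, hk⟩ := MulAction.exists_smul_eq K (S.subtype hSK) P
  have hzP : z ∈ (k • S.subtype hSK : Sylow 2 K) := hk ▸ hP (Subgroup.mem_zpowers z)
  have h2 : z ∈ (((k • S.subtype hSK : Sylow 2 K)) : Subgroup K) := hzP
  rw [Sylow.coe_subgroup_smul, Subgroup.mem_pointwise_smul_iff_inv_smul_mem, ← map_inv,
    MulAut.smul_def, MulAut.conj_apply, inv_inv, Sylow.coe_subtype, Subgroup.mem_subgroupOf] at h2
  refine ⟨k, k.2, _, h2, ?_⟩
  simp only [Subgroup.coe_mul, InvMemClass.coe_inv, z]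
  group

/-- There is no pair. -/
theorem Pair.false [Finite H] [Finite V] [Nontrivial V] (hP : Pair V T R) : False := by
  classical
  haveI := Fact.mk Nat.prime_two
  haveI := hP.simple
  obtain ⟨S⟩ : Nonempty (Sylow 2 T) := inferInstance
  haveI : Nontrivial (S : Subgroup T) := by
    rw [← Finite.one_lt_card_iff_nontrivial]
    refine lt_of_lt_of_le Nat.one_lt_two (Nat.le_of_dvd Nat.card_pos ?_)
    exact Sylow.dvd_card_of_dvd_card S hP.even
  haveI := S.isPGroup'.center_nontrivial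
  obtain ⟨c, hc⟩ := exists_prime_orderOf_dvd_card' 2
    (G := Subgroup.center (S : Subgroup T)) (by
      obtain ⟨n, hn⟩ := IsPGroup.iff_card.1 (S.isPGroup'.to_subgroup (Subgroup.center _))
      rcases n with _ | n
      · have := Finite.one_lt_card (α := Subgroup.center (S : Subgroup T))
        omega
      · rw [hn, pow_succ]; exact dvd_mul_left 2 _)
  set x0 : T := ((c : (S : Subgroup T)) : T) with hx0
  have hx0o : orderOf x0 = 2 := by rw [hx0, Subgroup.orderOf_coe, Subgroup.orderOf_coe, hc]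
  have hx0S : ∀ s ∈ S, s * x0 = x0 * s := fun s hs =>
    congrArg Subtype.val (Subgroup.mem_center_iff.1 c.2 ⟨s, hs⟩)
  have hx0' : x0 * x0 = 1 := by rw [← pow_two, ← hx0o, pow_orderOf_eq_one]
  have hx01 : x0 ≠ 1 := fun e => by rw [e, orderOf_one] at hx0o; omega
  have hinvo : ∀ {y : T}, y * y = 1 → y ≠ 1 → IsInvo T (y : H) := fun {y} h1 h2 =>
    ⟨y.2, congrArg Subtype.val h1, fun e => h2 (Subtype.ext e)⟩
  have hxI : IsInvo T (x0 : H) := hinvo hx0' hx01
  -- a second involution in the centraliser of `x0`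
  obtain ⟨x1, hx1', hx11, hx10, hx1c⟩ : ∃ x1 : T, x1 * x1 = 1 ∧ x1 ≠ 1 ∧ x1 ≠ x0 ∧
      x1 * x0 = x0 * x1 := by
    by_contra hcon
    push Not at hcon
    have huniq : ∀ y : T, y * y = 1 → y * x0 = x0 * y → y = 1 ∨ y = x0 := fun y h1 h2 =>
      or_iff_not_imp_left.2 fun h3 => by_contra fun h4 => hcon y h1 h3 h4 h2
    have hiso : ∀ g : T, g * x0 * g⁻¹ ∈ S → g * x0 * g⁻¹ = x0 := fun g hg => by
      refine (huniq _ ?_ (hx0S _ hg)).resolve_left fun e => hx01 ?_
      · calc g * x0 * g⁻¹ * (g * x0 * g⁻¹) = g * (x0 * x0) * g⁻¹ := by group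
          _ = 1 := by rw [hx0', mul_one, mul_inv_cancel]
      · calc x0 = g⁻¹ * (g * x0 * g⁻¹) * g := by group
          _ = 1 := by rw [e, mul_one, inv_mul_cancel]
    obtain ⟨N, hNn, hNodd, hN⟩ :=
      Cfsg.Agent.S0215.result S x0 hx0o (c : (S : Subgroup T)).2 hiso
    rcases hNn.eq_bot_or_eq_top with e | e
    · have hcen : x0 ∈ Subgroup.center T := Subgroup.mem_center_iff.2 fun g => by
        have h1 := hN g
        rw [e, Subgroup.mem_bot] at h1
        exact (mul_inv_eq_iff_eq_mul.1 (mul_inv_eq_one.1 h1)).symm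
      rcases (inferInstance : (Subgroup.center T).Normal).eq_bot_or_eq_top with e' | e'
      · exact hx01 (Subgroup.mem_bot.1 (e' ▸ hcen))
      · exact hP.nonab ⟨⟨fun a b => Subgroup.mem_center_iff.1 (e' ▸ Subgroup.mem_top b) a⟩⟩
    · rw [e, Subgroup.card_top] at hNodd
      exact Nat.not_even_iff_odd.2 hNodd (even_iff_two_dvd.2 hP.even)
  have hx1I : IsInvo T (x1 : H) := hinvo hx1' hx11
  -- the stabiliser of `W`
  set W : AddSubgroup V := fix (x0 : H) with hW
  set K' : Subgroup T := stabilizer T (W : Set V) with hK'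
  have hK'mem : ∀ {k : T}, k ∈ K' → ∀ w : V, ((k : H) • w ∈ W ↔ w ∈ W) :=
    fun {k} hk => mem_stabilizer_set.1 hk
  have hcK' : ∀ k : T, k * x0 = x0 * k → k ∈ K' := fun k hk => by
    have h1 : (k : H) * x0 = x0 * k := congrArg Subtype.val hk
    have h2 : ((k⁻¹ : T) : H) * x0 = x0 * ((k⁻¹ : T) : H) :=
      congrArg Subtype.val (Commute.inv_left hk).eq
    rw [hK', mem_stabilizer_set]
    intro w
    refine ⟨fun hw => ?_, fun hw => smul_mem_fix_of_comm h1.symm hw⟩
    have := smul_mem_fix_of_comm (V := V) h2.symm hw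
    rwa [Subgroup.coe_inv, Subgroup.smul_def, inv_smul_smul] at this
  -- every involution of `K'` has fixed space `W`
  have hsyl : ∀ s : T, s ∈ S → s * s = 1 → s ≠ 1 → (fix (s : H) : AddSubgroup V) = W :=
    fun s hs h1 h2 => (hP.fix_eq hxI (hinvo h1 h2) (congrArg Subtype.val (hx0S s hs)).symm).symm
  -- a vector fixed by `K'`
  have hfix : ∀ (k : T), k ∈ K' → ∀ r : ℕ, r.Prime → Odd r →
      (∀ w ∈ W, k ^ r • w = w) → ∀ w ∈ W, k • w = w := fun k hk r hr hodd hkr w hw =>
    hP.fixes hxI k.2 (fun u hu => (hK'mem hk u).2 hu) hr hodd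
      (fun u hu => by have := hkr u hu; rwa [Subgroup.smul_def, Subgroup.coe_pow] at this) hw
  obtain ⟨w0, hw0⟩ : ∃ w : V, w ∈ W ∧ w ≠ 0 := by
    obtain ⟨u, hu⟩ := exists_ne (0 : V)
    by_cases h : (x0 : H) • u = u
    · exact ⟨u, h, hu⟩
    · refine ⟨u + (x0 : H) • u, ?_, fun e => h ((add_eq_zero_iff_eq_two hP.exp).1 e).symm⟩
      rw [hW, mem_fix, smul_add, smul_smul, hxI.2.1, one_smul, add_comm]
  obtain ⟨a, haW, ha0, haK⟩ : ∃ a ∈ W, a ≠ 0 ∧ ∀ k ∈ K', k • a = a := by
    letI act : MulAction K' W :=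
      { smul := fun k w => ⟨(k : T) • (w : V), (hK'mem k.2 w).2 w.2⟩
        one_smul := fun w => Subtype.ext (one_smul T (w : V))
        mul_smul := fun k l w => Subtype.ext (mul_smul (k : T) (l : T) (w : V)) }
    have hp : IsPGroup 2 (MulAction.toPermHom K' W).range := by
      refine IsPGroup.of_card (n := (Nat.card (MulAction.toPermHom K' W).range).primeFactorsList.length) ?_
      refine Nat.eq_prime_pow_of_unique_prime_dvd Nat.card_pos.ne' ?_
      intro r hr hd
      by_contra hr2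
      haveI := Fact.mk hr
      obtain ⟨⟨f, k, rfl⟩, hf⟩ := exists_prime_orderOf_dvd_card' r hd
      have h1 : MulAction.toPermHom K' W (k ^ r) = 1 := by
        rw [map_pow]
        exact congrArg Subtype.val ((hf ▸ pow_orderOf_eq_one _ :
          (⟨_, k, rfl⟩ : (MulAction.toPermHom K' W).range) ^ r = 1))
      have h2 : MulAction.toPermHom K' W k = 1 := Equiv.ext fun w => Subtype.ext
        (hfix k k.2 r hr (hr.odd_of_ne_two hr2) (fun u hu =>
          congrArg Subtype.val (Equiv.ext_iff.1 h1 ⟨u, hu⟩)) w w.2)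
      have : orderOf (⟨MulAction.toPermHom K' W k, k, rfl⟩ : (MulAction.toPermHom K' W).range) = 1 :=
        orderOf_eq_one_iff.2 (Subtype.ext h2)
      rw [hf] at this
      exact hr.ne_one this
    have hdvd : 2 ∣ Nat.card W := by
      have : orderOf (Multiplicative.ofAdd (⟨w0, hw0.1⟩ : W)) = 2 := by
        rw [orderOf_eq_prime_iff]
        exact ⟨congrArg Multiplicative.ofAdd (show 2 • (⟨w0, hw0.1⟩ : W) = 0 from
            Subtype.ext (by simp [two_nsmul, hP.exp])),
          fun e => hw0.2 (congrArg Subtype.val (Multiplicative.ofAdd.injective e))⟩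
      rw [← this]
      exact (_root_.orderOf_dvd_natCard _).trans (dvd_of_eq (Nat.card_congr Multiplicative.toAdd))
    have h0 : (0 : W) ∈ MulAction.fixedPoints (MulAction.toPermHom K' W).range W := by
      rintro ⟨_, k, rfl⟩
      exact Subtype.ext (smul_zero ((k : T) : H))
    obtain ⟨b, hb, hb0⟩ := hp.exists_fixed_point_of_prime_dvd_card_of_fixed_point W hdvd h0
    refine ⟨b, b.2, fun e => hb0 (Subtype.ext e).symm, fun k hk => ?_⟩
    exact congrArg Subtype.val (hb ⟨_, (⟨k, hk⟩ : K'), rfl⟩)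
  -- the orbit
  set K : Subgroup T := stabilizer T a with hK
  have hK'K : K' ≤ K := fun k hk => haK k hk
  have hSK' : (S : Subgroup T) ≤ K' := fun s hs => hcK' s (hx0S s hs)
  have hinK : ∀ y : T, y * y = 1 → y ≠ 1 → y ∈ K →
      ∃ k ∈ K, ∀ w : V, (y : H) • w = w ↔ k⁻¹ • w ∈ W := by
    intro y h1 h2 hy
    obtain ⟨k, hk, s, hs, rfl⟩ := exists_conj_sylow S (hSK'.trans hK'K) hy h1
    refine ⟨k, hk, fun w => ?_⟩
    have hs1 : s * s = 1 := by
      calc s * s = k⁻¹ * (k * s * k⁻¹ * (k * s * k⁻¹)) * k := by group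
        _ = 1 := by rw [h1, mul_one, inv_mul_cancel]
    have hs2 : s ≠ 1 := fun e => h2 (by rw [e, mul_one, mul_inv_cancel])
    rw [← hsyl s hs hs1 hs2, Subgroup.coe_mul, Subgroup.coe_mul, Subgroup.coe_inv, ← mem_fix,
      mem_fix_conj, Subgroup.smul_def, Subgroup.coe_inv]
  let O := {b : V // b ∈ MulAction.orbit T a ∧ b ≠ a}
  obtain ⟨t, hta⟩ : ∃ t : T, t • a ≠ a := by
    by_contra hc
    push Not at hc
    exact ha0 (hP.nofix a fun t ht => hc ⟨t, ht⟩)
  haveI : Nonempty O := ⟨⟨t • a, ⟨t, rfl⟩, hta⟩⟩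
  have hrep : ∀ b : O, ∃ g : T, g • a = b.1 := fun b => b.2.1
  choose g hg using hrep
  let pick : Bool → T := fun i => if i then x0 else x1
  have hpick : ∀ i, pick i * pick i = 1 ∧ pick i ≠ 1 ∧ ∀ w : V, ((pick i : T) : H) • w = w ↔ w ∈ W := by
    intro i
    cases i
    · refine ⟨hx1', hx11, fun w => ?_⟩
      rw [← mem_fix, hW, hP.fix_eq hxI hx1I (congrArg Subtype.val hx1c).symm]
      rfl
    · exact ⟨hx0', hx01, fun w => Iff.rfl⟩
  let y : O × Bool → T := fun p => g p.1 * pick p.2 * (g p.1)⁻¹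
  have hy1 : ∀ p, y p * y p = 1 := fun p => by
    calc y p * y p = g p.1 * (pick p.2 * pick p.2) * (g p.1)⁻¹ := by
          show g p.1 * pick p.2 * (g p.1)⁻¹ * (g p.1 * pick p.2 * (g p.1)⁻¹) = _
          group
      _ = 1 := by rw [(hpick p.2).1, mul_one, mul_inv_cancel]
  have hy2 : ∀ p, y p ≠ 1 := fun p e => (hpick p.2).2.1 (by
    calc pick p.2 = (g p.1)⁻¹ * y p * g p.1 := by
          show pick p.2 = (g p.1)⁻¹ * (g p.1 * pick p.2 * (g p.1)⁻¹) * g p.1
          group
      _ = 1 := by rw [e, mul_one, inv_mul_cancel])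
  have hyfix : ∀ p (w : V), (y p : H) • w = w ↔ (g p.1)⁻¹ • w ∈ W := fun p w => by
    rw [← mem_fix, show (y p : H) = (g p.1 : H) * (pick p.2 : H) * (g p.1 : H)⁻¹ from rfl,
      mem_fix_conj, mem_fix, (hpick p.2).2.2, Subgroup.smul_def, Subgroup.coe_inv]
  have htrans : ∀ {k g' : T}, (∀ w : V, k⁻¹ • w ∈ W ↔ g'⁻¹ • w ∈ W) → g' • a = k • a := by
    intro k g' h
    have hmem : g'⁻¹ * k ∈ K' := by
      rw [hK', mem_stabilizer_set]
      intro w
      show (g'⁻¹ * k) • w ∈ W ↔ w ∈ W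
      rw [mul_smul, ← h, inv_smul_smul]
    have := haK _ hmem
    rw [mul_smul, inv_smul_eq_iff] at this
    exact this.symm
  have hymove : ∀ p, y p • a ≠ a := by
    intro p hp
    obtain ⟨k, hk, hkw⟩ := hinK _ (hy1 p) (hy2 p) hp
    refine p.1.2.2 ?_
    rw [← hg p.1, htrans (fun w => ((hkw w).symm.trans (hyfix p w)))]
    exact hk
  have hyinj : Function.Injective y := by
    intro p q h
    have hb : p.1 = q.1 := by
      apply Subtype.ext
      rw [← hg p.1, ← hg q.1]
      exact htrans (fun w => by rw [← hyfix, ← hyfix, h])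
    refine Prod.ext hb ?_
    have hpq : pick p.2 = pick q.2 := by
      have : g p.1 * pick p.2 * (g p.1)⁻¹ = g q.1 * pick q.2 * (g q.1)⁻¹ := h
      rw [hb] at this
      exact mul_left_cancel (mul_right_cancel this)
    cases hp : p.2 <;> cases hq : q.2 <;> simp_all [pick, hx10.symm]
  let F : O × Bool → O := fun p => ⟨y p • a, ⟨y p, rfl⟩, hymove p⟩
  have hFinj : Function.Injective F := by
    intro p q h
    apply hyinj
    have hpq : (y p : H) • a = (y q : H) • a := congrArg Subtype.val h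
    have hq1 : (y q : H) * (y q : H) = 1 := congrArg Subtype.val (hy1 q)
    have hp1 : (y p : H) * (y p : H) = 1 := congrArg Subtype.val (hy1 p)
    have hh := hP.star (hinvo (hy1 p) (hy2 p)) (hymove p) (h := (y p * y q : T)) (y p * y q).2
      (by rw [Subgroup.coe_mul, mul_smul, ← hpq, smul_smul, hp1, one_smul])
      (by rw [Subgroup.coe_mul, mul_smul]
          conv_lhs => rw [hpq, smul_smul (y q : H), hq1, one_smul])
    have := congrArg (fun z => (y p) * z) (Subtype.ext hh : y p * y q = 1)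
    simp only [← mul_assoc, hy1 p, one_mul, mul_one] at this
    exact this.symm
  have := Nat.card_le_card_of_injective F hFinj
  rw [Nat.card_prod, Nat.card_eq_fintype_card (α := Bool), Fintype.card_bool] at this
  have hpos : 0 < Nat.card O := Nat.card_pos
  omega

end Cfsg.Agent.Grp.ExtPrimAffine
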