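import Cfsg.Agent.Lib.Grp.ExtPrimAffine.Simple
import Mathlib.GroupTheory.GroupAction.Primitive

/-!
# Insoluble extremely primitive groups of affine type
-/

set_option autoImplicit false

universe u v

namespace Cfsg.Agent.Grp.ExtPrimAffine

open MulAction Subgroup
open scoped Pointwise

variable {G : Type u} [Group G]

/-- Conjugation of a subgroup on a normal subgroup. -/
@[reducible] def conjAct (N : Subgroup G) [N.Normal] [CommGroup N] (hN : ∀ a b : N, ((a * b : N) : G) = a * b)
    (h1 : ((1 : N) : G) = 1) (H : Subgroup G) : DistribMulAction H (Additive N) where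
  smul h v := Additive.ofMul ⟨(h : G) * (v.toMul : G) * (h : G)⁻¹,
    Subgroup.Normal.conj_mem inferInstance _ (v.toMul).2 _⟩
  one_smul v := congrArg Additive.ofMul (Subtype.ext (by
    show ((1 : H) : G) * (v.toMul : G) * ((1 : H) : G)⁻¹ = _
    rw [Subgroup.coe_one, one_mul, inv_one, mul_one]; rfl))
  mul_smul a b v := congrArg Additive.ofMul (Subtype.ext (by
    show ((a * b : H) : G) * (v.toMul : G) * ((a * b : H) : G)⁻¹
      = (a : G) * ((b : G) * (v.toMul : G) * (b : G)⁻¹) * (a : G)⁻¹
    rw [Subgroup.coe_mul]; group))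
  smul_zero a := congrArg Additive.ofMul (Subtype.ext (by
    show (a : G) * (((0 : Additive N).toMul : N) : G) * (a : G)⁻¹ = ((1 : N) : G)
    rw [show (((0 : Additive N).toMul : N) : G) = ((1 : N) : G) from rfl, h1, mul_one, mul_inv_cancel]))
  smul_add a v w := congrArg Additive.ofMul (Subtype.ext (by
    show (a : G) * ((v.toMul * w.toMul : N) : G) * (a : G)⁻¹ = _
    rw [hN]
    refine Eq.trans ?_ (hN _ _).symm
    show _ = (a : G) * (v.toMul : G) * (a : G)⁻¹ * ((a : G) * (w.toMul : G) * (a : G)⁻¹)
    group))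

theorem main [Finite G] {Ω : Type v} [Fintype Ω] [MulAction G Ω] [FaithfulSMul G Ω] (p d : ℕ)
    (hp : p.Prime) (hcard : Fintype.card Ω = p ^ d) (hsol : ¬ Group.IsSolvable G)
    (N : Subgroup G) [hNn : N.Normal] (hN : N ≠ ⊥) (hNc : IsMulCommutative N)
    (hNreg : ∀ ω : Ω, MulAction.stabilizer N ω = ⊥) (hprim : MulAction.IsPreprimitive G Ω)
    (hep : ∀ (α : Ω) (ω : Ω), MulAction.IsPreprimitive (MulAction.stabilizer G α)
      (MulAction.orbit (MulAction.stabilizer G α) ω)) (α : Ω) :
    p = 2 ∧ (¬ MulAction.IsMultiplyPretransitive G Ω 2 → ∃ T : Subgroup (MulAction.stabilizer G α),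
      T.Normal ∧ IsSimpleGroup T ∧ ¬ IsMulCommutative T ∧
      Subgroup.centralizer (T : Set (MulAction.stabilizer G α)) = ⊥) := by
  classical
  haveI := hprim
  letI : CommGroup N := { (inferInstance : Group N) with mul_comm := hNc.is_comm.comm }
  set H := stabilizer G α with hH
  letI := conjAct N (fun a b => rfl) rfl H
  set V := Additive N
  have hsmul : ∀ (h : H) (v : V), (((h • v).toMul : N) : G) = h * (v.toMul : G) * (h : G)⁻¹ :=
    fun h v => rfl
  haveI : Finite V := Finite.of_equiv N Additive.ofMul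
  haveI : Nontrivial N := (Subgroup.nontrivial_iff_ne_bot N).2 hN
  haveI : Nontrivial V := Additive.ofMul.symm.nontrivial
  have htrans : ∀ (Z : Subgroup G), Z.Normal → Z ≠ ⊥ → IsPretransitive Z Ω := by
    intro Z hZ hZ1
    haveI := hZ
    refine IsQuasiPreprimitive.isPretransitive_of_normal (G := G) (X := Ω) (N := Z) fun e => hZ1 ?_
    refine (Subgroup.eq_bot_iff_forall _).2 fun z hz => eq_of_smul_eq_smul (α := Ω) fun ω => ?_
    rw [one_smul]
    have : ω ∈ MulAction.fixedPoints Z Ω := e ▸ Set.mem_univ ω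
    exact this ⟨z, hz⟩
  haveI := htrans N hNn hN
  have hinj : ∀ a b : V, ((a.toMul : N) : G) • α = ((b.toMul : N) : G) • α → a = b := by
    intro a b h
    have h1 : (b.toMul)⁻¹ * a.toMul ∈ stabilizer N α := by
      rw [mem_stabilizer_iff, mul_smul]
      show (b.toMul)⁻¹ • ((a.toMul : G) • α) = α
      rw [h]
      exact inv_smul_smul b.toMul α
    rw [hNreg α, Subgroup.mem_bot, inv_mul_eq_one] at h1
    exact Additive.toMul.injective h1.symm
  have hcardV : Nat.card V = p ^ d := by
    rw [← hcard, ← Nat.card_eq_fintype_card]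
    refine Nat.card_congr (Equiv.ofBijective (fun v : V => ((v.toMul : N) : G) • α) ⟨hinj, fun ω => ?_⟩)
    obtain ⟨n, hn⟩ := MulAction.exists_smul_eq N α ω
    exact ⟨Additive.ofMul n, hn⟩
  have heq : ∀ (h : H) (v : V), (h : G) • (((v.toMul : N) : G) • α) = (((h • v).toMul : N) : G) • α := by
    intro h v
    rw [hsmul, mul_smul, mul_smul, mem_stabilizer_iff.1 (inv_mem h.2)]
  have hfaith : ∀ h : H, (∀ v : V, h • v = v) → h = 1 := by
    intro h hh
    refine Subtype.ext (eq_of_smul_eq_smul (α := Ω) fun ω => ?_)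
    obtain ⟨n, rfl⟩ := MulAction.exists_smul_eq N α ω
    rw [Subgroup.coe_one, one_smul]
    show (h : G) • (((Additive.ofMul n).toMul : N) : G) • α = _
    rw [heq, hh]
    rfl
  have hGdec : ∀ g : G, ∃ n : N, ∃ h : H, g = n * h := by
    intro g
    obtain ⟨n, hn⟩ := MulAction.exists_smul_eq N α (g • α)
    exact ⟨n, ⟨(n : G)⁻¹ * g, by
      rw [mem_stabilizer_iff, mul_smul, ← hn]
      exact inv_smul_smul (n : G) α⟩, (mul_inv_cancel_left _ _).symm⟩
  have hnsolH : ¬ Group.IsSolvable H := by
    intro hs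
    haveI := hs
    haveI : Group.IsSolvable (G ⧸ N) := Group.isSolvable_of_surjective
      (f := (QuotientGroup.mk' N).comp H.subtype) (fun x => by
        obtain ⟨g, rfl⟩ := QuotientGroup.mk_surjective x
        obtain ⟨n, h, rfl⟩ := hGdec g
        refine ⟨h, ?_⟩
        show ((h : G) : G ⧸ N) = (((n : G) * h : G) : G ⧸ N)
        rw [QuotientGroup.mk_mul, (QuotientGroup.eq_one_iff (n : G)).2 n.2, one_mul])
    haveI : Group.IsSolvable N := Group.isSolvable_of_comm hNc.is_comm.comm
    exact hsol ((Group.isSolvable_iff_subgroup_quotient N).2 ⟨inferInstance, inferInstance⟩)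
  have hirr : ∀ L : AddSubgroup V, Inv (⊤ : Subgroup H) L → L = ⊥ ∨ L = ⊤ := by
    intro L hL
    refine or_iff_not_imp_left.2 fun hL0 => ?_
    let Z : Subgroup G :=
      { carrier := {g | ∃ hg : g ∈ N, Additive.ofMul (⟨g, hg⟩ : N) ∈ L}
        one_mem' := ⟨one_mem N, L.zero_mem⟩
        mul_mem' := fun ⟨ha, ha'⟩ ⟨hb, hb'⟩ => ⟨mul_mem ha hb, L.add_mem ha' hb'⟩
        inv_mem' := fun ⟨ha, ha'⟩ => ⟨inv_mem ha, L.neg_mem ha'⟩ }
    have hZn : Z.Normal := ⟨fun z ⟨hz, hz'⟩ g => by
      obtain ⟨n, h, rfl⟩ := hGdec g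
      refine ⟨hNn.conj_mem z hz _, ?_⟩
      have h1 := hL h (mem_top h) _ hz'
      convert h1 using 1
      refine Additive.toMul.injective (Subtype.ext ?_)
      rw [hsmul]
      show (n : G) * h * z * ((n : G) * h)⁻¹ = (h : G) * z * (h : G)⁻¹
      have hc := congrArg Subtype.val (hNc.is_comm.comm n ⟨_, hNn.conj_mem z hz h⟩)
      simp only [Subgroup.coe_mul] at hc
      calc (n : G) * h * z * ((n : G) * h)⁻¹ = (n : G) * ((h : G) * z * (h : G)⁻¹) * (n : G)⁻¹ := by group
        _ = _ := by rw [hc]; group⟩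
    have hZ1 : Z ≠ ⊥ := fun e => hL0 ((AddSubgroup.eq_bot_iff_forall _).2 fun v hv => by
      have hz : ((v.toMul : N) : G) ∈ Z := ⟨v.toMul.2, hv⟩
      rw [e, Subgroup.mem_bot] at hz
      exact Additive.toMul.injective (Subtype.ext hz))
    haveI := htrans Z hZn hZ1
    refine eq_top_iff.2 fun v _ => ?_
    obtain ⟨⟨z, hz, hz'⟩, he⟩ := MulAction.exists_smul_eq Z α (((v.toMul : N) : G) • α)
    have : Additive.ofMul (⟨z, hz⟩ : N) = v := hinj _ _ he
    exact this ▸ hz'
  have hmax : ∀ v : V, v ≠ 0 → ∀ K : Subgroup H, stabilizer H v ≤ K → K = stabilizer H v ∨ K = ⊤ := by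
    intro v _ K hK
    by_cases htop : stabilizer H v = ⊤
    · exact Or.inr (top_le_iff.1 (htop ▸ hK))
    set ω : Ω := ((v.toMul : N) : G) • α with hω
    haveI := hep α ω
    haveI : IsPretransitive H (MulAction.orbit H ω) := inferInstance
    let x : MulAction.orbit H ω := ⟨ω, MulAction.mem_orbit_self ω⟩
    have hst : stabilizer H x = stabilizer H v := by
      ext h
      rw [mem_stabilizer_iff, mem_stabilizer_iff]
      constructor
      · intro e
        apply hinj
        rw [← heq]
        exact congrArg Subtype.val e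
      · intro e
        apply Subtype.ext
        show (h : G) • ω = ω
        rw [hω, heq, e]
    haveI : Nontrivial (MulAction.orbit H ω) := by
      obtain ⟨h, hh⟩ : ∃ h : H, h ∉ stabilizer H v := by
        by_contra hc; push Not at hc
        exact htop (eq_top_iff.2 fun h _ => hc h)
      rw [← hst, mem_stabilizer_iff] at hh
      exact ⟨⟨h • x, x, hh⟩⟩
    have hco := IsPreprimitive.isCoatom_stabilizer_of_isPreprimitive (G := H) x
    rw [hst] at hco
    rcases eq_or_lt_of_le hK with e | e
    · exact Or.inl e.symm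
    · exact Or.inr (hco.2 K e)
  have hp2 : p = 2 := by
    by_contra hne
    have hodd : ∀ v : V, v + v = 0 → v = 0 := by
      intro v hv
      have h1 : addOrderOf v ∣ 2 := addOrderOf_dvd_of_nsmul_eq_zero (by rw [two_nsmul, hv])
      have h2 : addOrderOf v ∣ p ^ d := hcardV ▸ addOrderOf_dvd_natCard v
      have h3 : Nat.Coprime 2 (p ^ d) :=
        ((Nat.coprime_primes Nat.prime_two hp).2 (Ne.symm hne)).pow_right d
      exact AddMonoid.addOrderOf_eq_one_iff.1 (Nat.eq_one_of_dvd_coprimes h3 h1 h2)
    haveI := Fact.mk Nat.prime_two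
    obtain ⟨h, hh⟩ := exists_prime_orderOf_dvd_card' (G := H) 2 (by
      by_contra hd
      exact hnsolH (Cfsg.Agent.S0205.result (Nat.odd_iff.2 (by omega))))
    have hh2 : h * h = 1 := by rw [← pow_two, ← hh, pow_orderOf_eq_one]
    obtain ⟨n, hn⟩ : ∃ n : V, h • n ≠ n := by
      by_contra hc; push Not at hc
      rw [hfaith h hc, orderOf_one] at hh
      omega
    set v := h • n - n with hv
    have hv0 : v ≠ 0 := fun e => hn (sub_eq_zero.1 e)
    have hhv : h • v = -v := by rw [hv, smul_sub, smul_smul, hh2, one_smul, neg_sub]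
    let K : Subgroup H :=
      { carrier := {g | g • v = v ∨ g • v = -v}
        one_mem' := Or.inl (one_smul _ v)
        mul_mem' := by
          rintro a b (ha | ha) (hb | hb)
          · exact Or.inl (by rw [mul_smul, hb, ha])
          · exact Or.inr (by rw [mul_smul, hb, smul_neg, ha])
          · exact Or.inr (by rw [mul_smul, hb, ha])
          · exact Or.inl (by rw [mul_smul, hb, smul_neg, ha]; exact neg_neg v)
        inv_mem' := by
          rintro a (ha | ha)
          · exact Or.inl (inv_smul_eq_iff.2 ha.symm)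
          · refine Or.inr (inv_smul_eq_iff.2 ?_)
            rw [smul_neg, ha]; exact (neg_neg v).symm }
    rcases hmax v hv0 K (fun g hg => Or.inl hg) with e | e
    · have h1 : h ∈ K := Or.inr hhv
      rw [e, mem_stabilizer_iff, hhv] at h1
      exact hv0 (hodd v (by nth_rewrite 1 [← h1]; exact neg_add_cancel v))
    · have hall : ∀ g : H, g • v = v ∨ g • v = -v := fun g => by
        have : g ∈ K := by rw [e]; exact mem_top g
        exact this
      have hL : AddSubgroup.zmultiples v = ⊤ := by
        refine (hirr _ ?_).resolve_left fun e' => hv0 ?_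
        · intro g _ w hw
          obtain ⟨k, rfl⟩ := AddSubgroup.mem_zmultiples_iff.1 hw
          rw [show g • (k • v) = k • (g • v) from map_zsmul (DistribMulAction.toAddMonoidHom V g) k v]
          refine AddSubgroup.zsmul_mem _ ?_ k
          rcases hall g with e1 | e1 <;> rw [e1]
          · exact AddSubgroup.mem_zmultiples v
          · exact AddSubgroup.neg_mem _ (AddSubgroup.mem_zmultiples v)
        · exact AddSubgroup.mem_bot.1 (e' ▸ AddSubgroup.mem_zmultiples v)
      refine hnsolH (Group.isSolvable_of_comm fun a b => ?_)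
      have key : ∀ (g : H) (k : ℤ), g • (k • v) = k • (g • v) := fun g k =>
        map_zsmul (DistribMulAction.toAddMonoidHom V g) k v
      have h1 := hfaith ((b * a)⁻¹ * (a * b)) fun w => by
        have hw : w ∈ AddSubgroup.zmultiples v := by rw [hL]; exact AddSubgroup.mem_top w
        obtain ⟨k, rfl⟩ := AddSubgroup.mem_zmultiples_iff.1 hw
        rw [mul_smul, inv_smul_eq_iff, key, key]
        congr 1
        rcases hall a with ea | ea <;> rcases hall b with eb | eb <;>
          simp [mul_smul, ea, eb, smul_neg]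
      exact (inv_mul_eq_one.1 h1).symm
  refine ⟨hp2, fun _ => ?_⟩
  have hexp : ∀ v : V, v + v = 0 := by
    let L : AddSubgroup V :=
      { carrier := {v | v + v = 0}
        zero_mem' := add_zero 0
        add_mem' := fun {a b} (ha : a + a = 0) (hb : b + b = 0) => show a + b + (a + b) = 0 by
          rw [add_add_add_comm, ha, hb, add_zero]
        neg_mem' := fun {a} (ha : a + a = 0) => show -a + -a = 0 by rw [← neg_add, ha, neg_zero] }
    rcases hirr L (fun g _ w (hw : w + w = 0) => show g • w + g • w = 0 by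
        rw [← smul_add, hw, smul_zero]) with e | e
    · exfalso
      haveI := Fact.mk Nat.prime_two
      obtain ⟨v, hv⟩ := exists_prime_addOrderOf_dvd_card' (G := V) 2 (by
        rw [hcardV, hp2]
        rcases d with _ | d
        · have h1 := Finite.one_lt_card (α := V)
          rw [hcardV] at h1; simp at h1
        · rw [pow_succ]; exact dvd_mul_left 2 _)
      have h1 : v ∈ L := show v + v = 0 by rw [← two_nsmul, ← hv, addOrderOf_nsmul_eq_zero]
      rw [e, AddSubgroup.mem_bot] at h1
      rw [h1, addOrderOf_zero] at hv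
      omega
    · intro v
      exact (e.symm ▸ AddSubgroup.mem_top v : v ∈ L)
  exact Hyp.almostSimple (H := H) (V := V) ⟨hexp, hfaith, hirr, hmax, hnsolH⟩

end Cfsg.Agent.Grp.ExtPrimAffine
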