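import Cfsg.Agent.Lib.Grp.ExtPrimAffine.Basic
import Cfsg.Agent.S0205
import Cfsg.Agent.S0215

/-!
# No two commuting simple factors in an extremely primitive affine group
-/

set_option autoImplicit false

universe u v

namespace Cfsg.Agent.Grp.ExtPrimAffine

open MulAction Subgroup
open scoped Pointwise

variable {H : Type u} [Group H] {V : Type v} [AddCommGroup V] [DistribMulAction H V]
  {T R : Subgroup H}

variable (V) in
/-- A simple factor `T`, commuting with a complement `R` containing a conjugate of `T`. -/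
structure Pair (T R : Subgroup H) : Prop where
  exp : ∀ v : V, v + v = 0
  comm : ∀ t ∈ T, ∀ r ∈ R, t * r = r * t
  prod : ∀ v : V, v ≠ 0 → ∀ x ∈ T, ∀ r ∈ R, (x * r) • v = v →
    (∃ t ∈ T, t ≠ 1 ∧ t • v = v) → x • v = v
  irr : ∀ L : AddSubgroup V, Inv T L → Inv R L → L = ⊥ ∨ L = ⊤
  twist : ∃ g : H, ∀ t ∈ T, g * t * g⁻¹ ∈ R
  nofix : ∀ v : V, (∀ t ∈ T, t • v = v) → v = 0
  simple : IsSimpleGroup T
  nonab : ¬ IsMulCommutative T

/-- An involution of `T`. -/
def IsInvo (T : Subgroup H) (x : H) : Prop := x ∈ T ∧ x * x = 1 ∧ x ≠ 1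

theorem IsInvo.conj {x g : H} (hx : IsInvo T x) (hg : g ∈ T) : IsInvo T (g * x * g⁻¹) := by
  refine ⟨mul_mem (mul_mem hg hx.1) (inv_mem hg), ?_, fun e => hx.2.2 ?_⟩
  · calc g * x * g⁻¹ * (g * x * g⁻¹) = g * (x * x) * g⁻¹ := by group
      _ = 1 := by rw [hx.2.1, mul_one, mul_inv_cancel]
  · calc x = g⁻¹ * (g * x * g⁻¹) * g := by group
      _ = 1 := by rw [e, mul_one, inv_mul_cancel]

theorem IsInvo.inv_eq {x : H} (hx : IsInvo T x) : x⁻¹ = x := inv_eq_of_mul_eq_one_right hx.2.1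

theorem Pair.even [Finite H] (hP : Pair V T R) : 2 ∣ Nat.card T := by
  by_contra h
  haveI := hP.simple
  haveI : Group.IsSolvable T := Cfsg.Agent.S0205.result (Nat.odd_iff.2 (by omega))
  exact hP.nonab ⟨⟨fun a b => IsSimpleGroup.comm_iff_isSolvable.2 inferInstance a b⟩⟩

/-- A vector fixed by all involutions of `T` is `0`. -/
theorem Pair.eq_zero_of_invo [Finite H] (hP : Pair V T R) {v : V}
    (h : ∀ x, IsInvo T x → x • v = v) : v = 0 := by
  haveI := hP.simple
  haveI := Fact.mk Nat.prime_two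
  apply hP.nofix
  let K : Subgroup T := Subgroup.closure {x : T | x * x = 1 ∧ x ≠ 1}
  haveI : K.Normal := by
    refine ⟨fun k hk g => ?_⟩
    have : K ≤ K.comap (MulAut.conj g).toMonoidHom := by
      rw [Subgroup.closure_le]
      intro x hx
      refine Subgroup.subset_closure ⟨?_, fun e => hx.2 ?_⟩
      · rw [← map_mul, hx.1, map_one]
      · exact (MulAut.conj g).injective (e.trans (map_one _).symm)
    simpa using this hk
  have htop : K = ⊤ := by
    refine (Subgroup.Normal.eq_bot_or_eq_top (H := K) inferInstance).resolve_left fun e => ?_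
    obtain ⟨x, hx⟩ := exists_prime_orderOf_dvd_card' 2 hP.even
    have hxK : x ∈ K := Subgroup.subset_closure ⟨by rw [← pow_two, ← hx, pow_orderOf_eq_one],
      fun e' => by rw [e', orderOf_one] at hx; omega⟩
    rw [e, mem_bot] at hxK
    rw [hxK, orderOf_one] at hx
    omega
  intro t ht
  have hle : K ≤ (stabilizer H v).subgroupOf T := by
    rw [Subgroup.closure_le]
    intro x hx
    exact h x ⟨x.2, congrArg Subtype.val hx.1, fun e => hx.2 (Subtype.ext e)⟩
  exact hle (htop ▸ mem_top (⟨t, ht⟩ : T))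

/-- The basic property: the stabilisers of `u` and `x u ≠ u` meet trivially. -/
theorem Pair.star [Finite H] (hP : Pair V T R) {x : H} (hx : IsInvo T x) {u : V} (hxu : x • u ≠ u)
    {h : H} (hh : h ∈ T) (hu : h • u = u) (hu' : h • (x • u) = x • u) : h = 1 := by
  by_contra hne
  obtain ⟨g, hg⟩ := hP.twist
  set w := u + x • u with hw
  have hw0 : w ≠ 0 := fun e => hxu ((add_eq_zero_iff_eq_two hP.exp).1 e).symm
  obtain ⟨y, hy, hyw⟩ : ∃ y, IsInvo T y ∧ (g * y * g⁻¹) • w ≠ w := by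
    by_contra hc
    push Not at hc
    refine hw0 ?_
    have h0 : g⁻¹ • w = 0 := hP.eq_zero_of_invo fun y hy => by
      have h1 := congrArg (g⁻¹ • ·) (hc y hy)
      simpa only [mul_smul, inv_smul_smul] using h1
    exact (smul_eq_zero_iff_eq g⁻¹).1 h0
  set r := g * y * g⁻¹ with hr
  have hrR : r ∈ R := hg y hy.1
  have hrr : r * r = 1 := by
    calc r * r = g * (y * y) * g⁻¹ := by rw [hr]; group
      _ = 1 := by rw [hy.2.1, mul_one, mul_inv_cancel]
  have hxr : x * r = r * x := hP.comm x hx.1 r hrR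
  have hxr2 : (x * r) * (x * r) = 1 := by
    calc (x * r) * (x * r) = x * (r * x) * r := by group
      _ = (x * x) * (r * r) := by rw [← hxr]; group
      _ = 1 := by rw [hx.2.1, hrr, one_mul]
  set v := u + (x * r) • u with hv
  have hvv : (x * r) • v = v := by
    rw [hv, smul_add, smul_smul, hxr2, one_smul, add_comm]
  have hhv : h • v = v := by
    rw [hv, smul_add, hu, hxr, mul_smul, smul_smul, hP.comm h hh r hrR, mul_smul, hu']
  have hxv : x • v = v := by
    by_cases h0 : v = 0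
    · rw [h0, smul_zero]
    · exact hP.prod v h0 x hx.1 r hrR hvv ⟨h, hh, hne, hhv⟩
  apply hyw
  rw [hv, smul_add, smul_smul, ← mul_assoc, hx.2.1, one_mul] at hxv
  calc r • w = r • u + r • (x • u) := by rw [hw, smul_add]
    _ = r • u + (x * r) • u := by rw [hxr, mul_smul r x u]
    _ = w := by
      rw [← add_eq_zero_iff_eq_two hP.exp] at hxv ⊢
      rw [hw]
      calc r • u + (x * r) • u + (u + x • u) = x • u + r • u + (u + (x * r) • u) := by abel
        _ = 0 := hxv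

theorem Pair.fix_subset [Finite H] (hP : Pair V T R) {x y : H} (hx : IsInvo T x) (hy : IsInvo T y)
    (hxy : x * y = y * x) : (fix x : AddSubgroup V) ≤ fix y := by
  intro u hu
  by_contra hyu
  exact hx.2.2 (hP.star hy hyu hx.1 hu (smul_mem_fix_of_comm hxy hu))

theorem Pair.fix_eq [Finite H] (hP : Pair V T R) {x y : H} (hx : IsInvo T x) (hy : IsInvo T y)
    (hxy : x * y = y * x) : (fix x : AddSubgroup V) = fix y :=
  le_antisymm (hP.fix_subset hx hy hxy) (hP.fix_subset hy hx hxy.symm)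

/-- Fixed spaces propagate from a minimal invariant subspace. -/
theorem Pair.exists_move [Finite H] [Finite V] (hP : Pair V T R) {x h : H} (hx : x ∈ T) (hh : h ∈ T)
    {w : V} (hw : x • w = w) (hhw : h • w ≠ w) {L : AddSubgroup V} (hL : L ≠ ⊥) (hLT : Inv T L) :
    ∃ z ∈ L, x • z = z ∧ h • z ≠ z := by
  by_contra hc
  push Not at hc
  obtain ⟨L0, hL0, hle, hL0T, hmin⟩ := exists_minimal_inv hL hLT
  haveI : Finite (AddSubgroup V) := Finite.of_injective _ SetLike.coe_injective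
  obtain ⟨Z, hZ0, hm⟩ := (Set.toFinite {Z : AddSubgroup V | Inv T Z ∧
    ∀ z ∈ Z, x • z = z → h • z = z}).exists_le_maximal (a := L0)
      ⟨hL0T, fun z hz hxz => hc z (hle hz) hxz⟩
  obtain ⟨hZT, hZp⟩ := hm.prop
  have key : ∀ r ∈ R, ∀ l ∈ L0, r • l ∈ Z := by
    intro r hr
    let P : AddSubgroup V :=
      { carrier := {l | l ∈ L0 ∧ r • l ∈ Z}
        zero_mem' := ⟨L0.zero_mem, by rw [smul_zero]; exact Z.zero_mem⟩
        add_mem' := fun {a b} ha hb => ⟨L0.add_mem ha.1 hb.1, by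
          rw [smul_add]; exact Z.add_mem ha.2 hb.2⟩
        neg_mem' := fun {a} ha => ⟨L0.neg_mem ha.1, by rw [smul_neg]; exact Z.neg_mem ha.2⟩ }
    have hPT : Inv T P := fun t ht l hl => ⟨hL0T t ht l hl.1, by
      rw [smul_smul, ← hP.comm t ht r hr, mul_smul]; exact hZT t ht _ hl.2⟩
    rcases hmin P (fun l hl => hl.1) hPT with hbot | htop
    · intro l hl
      let Z' : AddSubgroup V :=
        { carrier := {v | ∃ z ∈ Z, ∃ l ∈ L0, v = z + r • l}
          zero_mem' := ⟨0, Z.zero_mem, 0, L0.zero_mem, by rw [smul_zero, add_zero]⟩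
          add_mem' := by
            rintro _ _ ⟨z, hz, l, hl, rfl⟩ ⟨z', hz', l', hl', rfl⟩
            exact ⟨z + z', Z.add_mem hz hz', l + l', L0.add_mem hl hl', by rw [smul_add]; abel⟩
          neg_mem' := by
            rintro _ ⟨z, hz, l, hl, rfl⟩
            exact ⟨-z, Z.neg_mem hz, -l, L0.neg_mem hl, by rw [smul_neg]; abel⟩ }
      have hZ' : Z' ≤ Z := by
        refine hm.le_of_ge ⟨?_, ?_⟩ fun z hz => ⟨z, hz, 0, L0.zero_mem, by rw [smul_zero, add_zero]⟩
        · rintro t ht _ ⟨z, hz, l, hl, rfl⟩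
          exact ⟨t • z, hZT t ht z hz, t • l, hL0T t ht l hl, by
            rw [smul_add, smul_smul, hP.comm t ht r hr, mul_smul]⟩
        · rintro _ ⟨z, hz, l, hl, rfl⟩ hzl
          rw [smul_add, smul_smul, hP.comm x hx r hr, mul_smul] at hzl
          have hd : r • (x • l - l) = z - x • z := by
            rw [smul_sub, sub_eq_sub_iff_add_eq_add, add_comm (r • (x • l)) (x • z), hzl]
          have hP' : x • l - l ∈ P := ⟨L0.sub_mem (hL0T x hx l hl) hl, by
            rw [hd]; exact Z.sub_mem hz (hZT x hx z hz)⟩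
          rw [hbot, AddSubgroup.mem_bot, sub_eq_zero] at hP'
          rw [hP', sub_self, smul_zero, eq_comm, sub_eq_zero] at hd
          rw [smul_add, hZp z hz hd.symm, smul_smul, hP.comm h hh r hr, mul_smul,
            hc l (hle hl) hP']
      exact hZ' ⟨0, Z.zero_mem, l, hl, (zero_add _).symm⟩
    · intro l hl
      rw [← htop] at hl
      exact hl.2
  let S : AddSubgroup V :=
    { carrier := {v | v ∈ Z ∧ ∀ r ∈ R, r • v ∈ Z}
      zero_mem' := ⟨Z.zero_mem, fun r _ => by rw [smul_zero]; exact Z.zero_mem⟩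
      add_mem' := fun {a b} ha hb => ⟨Z.add_mem ha.1 hb.1, fun r hr => by
        rw [smul_add]; exact Z.add_mem (ha.2 r hr) (hb.2 r hr)⟩
      neg_mem' := fun {a} ha => ⟨Z.neg_mem ha.1, fun r hr => by
        rw [smul_neg]; exact Z.neg_mem (ha.2 r hr)⟩ }
  have hST : Inv T S := fun t ht v hv => ⟨hZT t ht v hv.1, fun r hr => by
    rw [smul_smul, ← hP.comm t ht r hr, mul_smul]; exact hZT t ht _ (hv.2 r hr)⟩
  have hSR : Inv R S := fun r hr v hv => ⟨hv.2 r hr, fun r' hr' => by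
    rw [smul_smul]; exact hv.2 _ (mul_mem hr' hr)⟩
  have hS : S = ⊤ := (hP.irr S hST hSR).resolve_left fun e => hL0 (le_bot_iff.1 fun l hl => by
    rw [← e]; exact ⟨hZ0 hl, fun r hr => key r hr l hl⟩)
  exact hhw (hZp w ((hS ▸ AddSubgroup.mem_top w : w ∈ S)).1 hw)

/-- An element of `T` acting with odd prime order on the fixed space of an involution cannot exist. -/
theorem Pair.fixes [Finite H] [Finite V] (hP : Pair V T R) {x h : H} (hx : IsInvo T x) (hh : h ∈ T)
    (hW : ∀ w : V, x • w = w → x • (h • w) = h • w) {r : ℕ} (hr : r.Prime) (hodd : Odd r)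
    (hhr : ∀ w : V, x • w = w → h ^ r • w = w) {w : V} (hw : x • w = w) : h • w = w := by
  by_contra hne
  obtain ⟨g, hg⟩ := hP.twist
  set x' := g * x * g⁻¹ with hx'
  set h' := g * h * g⁻¹ with hh'
  have hx'R : x' ∈ R := hg x hx.1
  have hh'R : h' ∈ R := hg h hh
  have hWR : ∀ s ∈ R, ∀ u : V, x • u = u → x • (s • u) = s • u := fun s hs u hu =>
    smul_mem_fix_of_comm (hP.comm x hx.1 s hs) hu
  let L : AddSubgroup V :=
    { carrier := {z | ∃ u, x • u = u ∧ z = h • u + u}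
      zero_mem' := ⟨0, smul_zero x, by rw [smul_zero, add_zero]⟩
      add_mem' := by
        rintro _ _ ⟨u, hu, rfl⟩ ⟨u', hu', rfl⟩
        exact ⟨u + u', by rw [smul_add, hu, hu'], by rw [smul_add]; abel⟩
      neg_mem' := by
        rintro _ ⟨u, hu, rfl⟩
        exact ⟨-u, by rw [smul_neg, hu], by rw [smul_neg]; abel⟩ }
  have hLW : ∀ z ∈ L, x • z = z := by
    rintro _ ⟨u, hu, rfl⟩
    rw [smul_add, hu, hW u hu]
  have hLR : Inv R L := by
    rintro s hs _ ⟨u, hu, rfl⟩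
    exact ⟨s • u, hWR s hs u hu, by rw [smul_add, smul_smul, ← hP.comm h hh s hs, mul_smul]⟩
  have hLh : ∀ z ∈ L, h • z ∈ L := by
    rintro _ ⟨u, hu, rfl⟩
    exact ⟨h • u, hW u hu, by rw [smul_add]⟩
  have hLfree : ∀ z ∈ L, h • z = z → z = 0 := by
    rintro _ ⟨u, hu, rfl⟩ hz
    exact eq_zero_of_fix_diff hP.exp hodd (hhr u hu) hz
  have hL0 : L ≠ ⊥ := fun e => hne ((add_eq_zero_iff_eq_two hP.exp).1
    (AddSubgroup.mem_bot.1 (e ▸ (⟨w, hw, rfl⟩ : h • w + w ∈ L))))
  let L' : AddSubgroup V := L.comap (DistribMulAction.toAddMonoidHom V g)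
  have hmem' : ∀ z, z ∈ L' ↔ g • z ∈ L := fun z => Iff.rfl
  obtain ⟨z1, hz1, hxz1, hhz1⟩ := hP.exists_move hx.1 hh hw hne (L := L')
    (fun e => hL0 (le_bot_iff.1 fun z hz => by
      have : g⁻¹ • z ∈ L' := by rw [hmem', smul_inv_smul]; exact hz
      rw [e, AddSubgroup.mem_bot] at this
      exact AddSubgroup.mem_bot.2 ((smul_eq_zero_iff_eq g⁻¹).1 this)))
    (fun t ht z hz => by
      rw [hmem'] at hz ⊢
      have := hLR _ (hg t ht) _ hz
      rwa [mul_smul, mul_smul, inv_smul_smul] at this)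
  rw [hmem'] at hz1
  have hW'h' : ∀ u : V, x' • u = u → x' • (h' • u) = h' • u := fun u hu => by
    have h1 : x • (g⁻¹ • u) = g⁻¹ • u := (mem_fix_conj g x u).1 hu
    apply (mem_fix_conj g x _).2
    rw [mem_fix, hh', mul_smul, mul_smul, inv_smul_smul]
    exact hW _ h1
  have hh'r : ∀ u : V, x' • u = u → h' ^ r • u = u := fun u hu => by
    have h1 : x • (g⁻¹ • u) = g⁻¹ • u := (mem_fix_conj g x u).1 hu
    rw [hh', conj_pow, mul_smul, mul_smul, hhr _ h1, smul_inv_smul]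
  set u1 := g • z1 with hu1
  have hx'u1 : x' • u1 = u1 := by rw [hx', hu1, mul_smul, mul_smul, inv_smul_smul, hxz1]
  let Y : AddSubgroup V :=
    { carrier := {z | ∃ u ∈ L, x' • u = u ∧ z = h' • u + u}
      zero_mem' := ⟨0, L.zero_mem, smul_zero _, by rw [smul_zero, add_zero]⟩
      add_mem' := by
        rintro _ _ ⟨u, hu, hxu, rfl⟩ ⟨u', hu', hxu', rfl⟩
        exact ⟨u + u', L.add_mem hu hu', by rw [smul_add, hxu, hxu'], by rw [smul_add]; abel⟩
      neg_mem' := by
        rintro _ ⟨u, hu, hxu, rfl⟩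
        exact ⟨-u, L.neg_mem hu, by rw [smul_neg, hxu], by rw [smul_neg]; abel⟩ }
  have hYL : ∀ z ∈ Y, z ∈ L := by
    rintro _ ⟨u, hu, -, rfl⟩
    exact L.add_mem (hLR _ hh'R u hu) hu
  have hYh : ∀ z ∈ Y, h • z ∈ Y := by
    rintro _ ⟨u, hu, hxu, rfl⟩
    refine ⟨h • u, hLh u hu, smul_mem_fix_of_comm (hP.comm h hh x' hx'R).symm hxu, ?_⟩
    rw [smul_add, smul_smul, hP.comm h hh h' hh'R, mul_smul]
  have hYh' : ∀ z ∈ Y, h' • z ∈ Y := by
    rintro _ ⟨u, hu, hxu, rfl⟩
    exact ⟨h' • u, hLR _ hh'R u hu, hW'h' u hxu, by rw [smul_add]⟩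
  have hYW' : ∀ z ∈ Y, x' • z = z := by
    rintro _ ⟨u, -, hxu, rfl⟩
    rw [smul_add, hxu, hW'h' u hxu]
  have hYfree : ∀ z ∈ Y, h' • z = z → z = 0 := by
    rintro _ ⟨u, -, hxu, rfl⟩ hz
    exact eq_zero_of_fix_diff hP.exp hodd (hh'r u hxu) hz
  have hY0 : h' • u1 + u1 ≠ 0 := fun e => hhz1 (by
    have h1 := congrArg (g⁻¹ • ·) ((add_eq_zero_iff_eq_two hP.exp).1 e)
    simpa only [hh', hu1, mul_smul, inv_smul_smul] using h1)
  obtain ⟨j, v, hvY, hv0, hv⟩ := exists_fix_mul_pow hP.exp (hP.comm h hh h' hh'R) hr hodd Y hYh hYh'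
    (fun z hz => hhr z (hLW z (hYL z hz))) (fun z hz => hh'r z (hYW' z hz)) hYfree
    ⟨u1, hz1, hx'u1, rfl⟩ hY0
  exact hv0 (hLfree v (hYL v hvY)
    (hP.prod v hv0 h hh (h' ^ j) (pow_mem hh'R j) hv ⟨x, hx.1, hx.2.2, hLW v (hYL v hvY)⟩))

end Cfsg.Agent.Grp.ExtPrimAffine
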