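import Cfsg.Agent.Lib.Grp.ExtPrimAffine.Structure

/-!
# The minimal normal subgroup is simple
-/

set_option autoImplicit false

universe u v

namespace Cfsg.Agent.Grp.ExtPrimAffine

open MulAction Subgroup
open scoped Pointwise commutatorElement

variable {H : Type u} [Group H] {V : Type v} [AddCommGroup V] [DistribMulAction H V]

namespace Hyp

variable (hy : Hyp H V)
include hy

theorem not_solvable [Finite H] [Nontrivial V] (M : Subgroup H) [M.Normal] (hM : M ≠ ⊥)
    (hmin : ∀ K : Subgroup H, K.Normal → K ≤ M → K = ⊥ ∨ K = M) : ¬ Group.IsSolvable M := by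
  intro hs
  refine hy.not_comm M hM hmin ⟨⟨fun a b => Subtype.ext ?_⟩⟩
  haveI := hs
  haveI : Nontrivial M := (Subgroup.nontrivial_iff_ne_bot M).2 hM
  have h1 : (commutator M).map M.subtype = ⁅M, M⁆ := Subgroup.map_subtype_commutator M
  rcases hmin ⁅M, M⁆ inferInstance (h1 ▸ Subgroup.map_subtype_le _) with e | e
  · exact mul_comm_of_commutator_eq_one (Subgroup.mem_bot.1 (e ▸ Subgroup.commutator_mem_commutator a.2 b.2))
  · exfalso
    refine (Group.IsSolvable.commutator_lt_top_of_nontrivial M).ne ?_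
    apply Subgroup.map_injective M.subtype_injective
    rw [h1, e, ← MonoidHom.range_eq_map, Subgroup.range_subtype]
where
  mul_comm_of_commutator_eq_one {a b : H} (h : ⁅a, b⁆ = 1) : a * b = b * a :=
    commutatorElement_eq_one_iff_mul_comm.1 h

theorem centralizer_eq_bot [Finite H] [Nontrivial V] (M : Subgroup H) [M.Normal] (hM : M ≠ ⊥)
    (hmin : ∀ K : Subgroup H, K.Normal → K ≤ M → K = ⊥ ∨ K = M) :
    Subgroup.centralizer (M : Set H) = ⊥ := by
  by_contra hC
  refine hy.not_solvable M hM hmin (Cfsg.Agent.S0205.result (hy.odd_of_semiregular M ?_))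
  intro m hm v hv hmv
  exact hy.eq_one_of_commute hv (Subgroup.centralizer (M : Set H)) hC hmv
    (fun c hc => (Subgroup.mem_centralizer_iff.1 hc m hm).symm)

/-- `H` is almost simple. -/
theorem almostSimple [Finite H] [Finite V] [Nontrivial V] :
    ∃ M : Subgroup H, M.Normal ∧ IsSimpleGroup M ∧ ¬ IsMulCommutative M ∧
      Subgroup.centralizer (M : Set H) = ⊥ := by
  classical
  have htop : (⊤ : Subgroup H) ≠ ⊥ := fun e => hy.nsol (by
    haveI : Subsingleton H := Subgroup.subsingleton_iff.mp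
      (subsingleton_of_top_le_bot (α := Subgroup H) e.le)
    infer_instance)
  obtain ⟨M, hMn, hM, -, hmin⟩ := Grp.exists_minimal_normal_le htop
  haveI := hMn
  have hnc := hy.not_comm M hM hmin
  refine ⟨M, hMn, ?_, hnc, hy.centralizer_eq_bot M hM hmin⟩
  haveI : Nontrivial M := (Subgroup.nontrivial_iff_ne_bot M).2 hM
  obtain ⟨T0, hT0n, hT0ne, -, hT0min⟩ := Grp.exists_minimal_normal_le
    (N := (⊤ : Subgroup M)) (fun e => hM (by
      haveI : Subsingleton M := Subgroup.subsingleton_iff.mp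
        (subsingleton_of_top_le_bot (α := Subgroup M) e.le)
      exact absurd ‹Nontrivial M› (not_nontrivial M)))
  haveI := hT0n
  by_cases hT0top : T0 = ⊤
  · exact ⟨fun K hK => hT0min K hK (hT0top ▸ le_top) |>.imp id fun e => e.trans hT0top⟩
  exfalso
  set T : Subgroup H := T0.map M.subtype with hTdef
  have hTM : T ≤ M := Subgroup.map_subtype_le _
  have hMT : ∀ m ∈ M, ∀ t ∈ T, m * t * m⁻¹ ∈ T := by
    rintro m hm _ ⟨t, ht, rfl⟩
    exact ⟨_, hT0n.conj_mem t ht ⟨m, hm⟩, rfl⟩
  have hT1 : T ≠ ⊥ := fun e => hT0ne ((Subgroup.map_eq_bot_iff_of_injective _ M.subtype_injective).1 e)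
  have hTmin : ∀ A : Subgroup H, A ≤ T → (∀ m ∈ M, ∀ a ∈ A, m * a * m⁻¹ ∈ A) → A = ⊥ ∨ A = T := by
    intro A hA hAn
    haveI : (A.subgroupOf M).Normal := ⟨fun a ha m => hAn m m.2 a ha⟩
    have hmap : (A.subgroupOf M).map M.subtype = A := by
      rw [Subgroup.map_subgroupOf_eq_of_le (hA.trans hTM)]
    rcases hT0min (A.subgroupOf M) inferInstance (fun x hx => by
        obtain ⟨y, hy', hyx⟩ := hA hx
        exact Subtype.ext hyx ▸ hy') with e | e
    · left; rw [← hmap, e, Subgroup.map_bot]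
    · right; rw [← hmap, e]
  set R : Subgroup H := M ⊓ Subgroup.centralizer (T : Set H) with hR
  have hcomm : ∀ t ∈ T, ∀ r ∈ R, t * r = r * t := fun t ht r hr =>
    Subgroup.mem_centralizer_iff.1 hr.2 t ht
  -- conjugates of `T`
  have hconj : ∀ g : H, T.map (MulAut.conj g).toMonoidHom = T ∨
      T.map (MulAut.conj g).toMonoidHom ≤ R := by
    intro g
    set B := T.map (MulAut.conj g).toMonoidHom with hB
    have hBM : B ≤ M := by
      rintro _ ⟨b, hb, rfl⟩
      exact hMn.conj_mem b (hTM hb) g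
    have hMB : ∀ m ∈ M, ∀ b ∈ B, m * b * m⁻¹ ∈ B := by
      rintro m hm _ ⟨b, hb, rfl⟩
      refine ⟨(g⁻¹ * m * g) * b * (g⁻¹ * m * g)⁻¹, hMT _ (hMn.conj_mem' m hm g) b hb, ?_⟩
      simp only [MulEquiv.coe_toMonoidHom, MulAut.conj_apply]
      group
    rcases hTmin (T ⊓ B) inf_le_left (fun m hm a ha => ⟨hMT m hm a ha.1, hMB m hm a ha.2⟩) with e | e
    · right
      intro b hb
      refine ⟨hBM hb, Subgroup.mem_centralizer_iff.2 fun t ht => ?_⟩
      apply commutatorElement_eq_one_iff_mul_comm.1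
      rw [← Subgroup.mem_bot, ← e, commutatorElement_def]
      refine Subgroup.mem_inf.2 ⟨?_, mul_mem (hMB t (hTM ht) b hb) (inv_mem hb)⟩
      rw [mul_assoc, mul_assoc, ← mul_assoc b]
      exact mul_mem ht (hMT b (hBM hb) t⁻¹ (inv_mem ht))
    · left
      have hTB : T ≤ B := e ▸ inf_le_right
      exact (Subgroup.eq_of_le_of_card_ge hTB (le_of_eq (Subgroup.card_map_of_injective
        (MulAut.conj g).injective))).symm
  have hgen : ∀ P : Subgroup H, (∀ g : H, T.map (MulAut.conj g).toMonoidHom ≤ P) → M ≤ P := by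
    intro P hP
    have hle : Subgroup.normalClosure (T : Set H) ≤ P := by
      rw [Subgroup.normalClosure, Subgroup.closure_le]
      intro x hx
      rw [Group.mem_conjugatesOfSet_iff] at hx
      obtain ⟨t, ht, hconj⟩ := hx
      obtain ⟨g, rfl⟩ := isConj_iff.1 hconj
      exact hP g ⟨t, ht, rfl⟩
    rcases hmin (Subgroup.normalClosure (T : Set H)) Subgroup.normalClosure_normal
        (Subgroup.normalClosure_le_normal hTM) with e | e
    · exact absurd ((Subgroup.eq_bot_iff_forall T).2 fun x hx =>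
        Subgroup.mem_bot.1 (e ▸ Subgroup.subset_normalClosure hx)) hT1
    · exact e ▸ hle
  have hMeq : M ≤ T ⊔ R := hgen _ fun g => (hconj g).elim (fun e => e.le.trans le_sup_left)
    fun e => e.trans le_sup_right
  have hTnc : ¬ ∀ a ∈ T, ∀ b ∈ T, a * b = b * a := by
    intro hc
    apply hnc
    have hTC : ∀ g : H, T.map (MulAut.conj g).toMonoidHom ≤ Subgroup.centralizer (T : Set H) := by
      intro g
      rcases hconj g with e | e
      · rw [e]; exact fun b hb => Subgroup.mem_centralizer_iff.2 fun t ht => hc t ht b hb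
      · exact e.trans inf_le_right
    have hMC := hgen _ hTC
    have hT2 : ∀ g : H, T.map (MulAut.conj g).toMonoidHom ≤ Subgroup.centralizer (M : Set H) := by
      rintro g _ ⟨t, ht, rfl⟩
      refine Subgroup.mem_centralizer_iff.2 fun m hm => ?_
      have h1 := Subgroup.mem_centralizer_iff.1 (hMC (hMn.conj_mem' m hm g)) t ht
      simp only [MulEquiv.coe_toMonoidHom, MulAut.conj_apply]
      calc m * (g * t * g⁻¹) = g * (g⁻¹ * m * g * t) * g⁻¹ := by group
        _ = g * (t * (g⁻¹ * m * g)) * g⁻¹ := by rw [h1]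
        _ = g * t * g⁻¹ * m := by group
    have hMM := hgen _ hT2
    exact ⟨⟨fun a b => Subtype.ext (Subgroup.mem_centralizer_iff.1 (hMM b.2) a a.2)⟩⟩
  have hinf : ∀ a ∈ T, a ∈ Subgroup.centralizer (T : Set H) → a = 1 := by
    have hn : ∀ m ∈ M, ∀ a ∈ T ⊓ Subgroup.centralizer (T : Set H),
        m * a * m⁻¹ ∈ T ⊓ Subgroup.centralizer (T : Set H) := by
      intro m hm a ha
      refine ⟨hMT m hm a ha.1, Subgroup.mem_centralizer_iff.2 fun t ht => ?_⟩
      have h1 := Subgroup.mem_centralizer_iff.1 ha.2 _ (hMT m⁻¹ (inv_mem hm) t ht)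
      calc t * (m * a * m⁻¹) = m * (m⁻¹ * t * m⁻¹⁻¹ * a) * m⁻¹ := by group
        _ = m * (a * (m⁻¹ * t * m⁻¹⁻¹)) * m⁻¹ := by rw [h1]
        _ = m * a * m⁻¹ * t := by group
    rcases hTmin _ inf_le_left hn with e | e
    · intro a ha hac
      exact Subgroup.mem_bot.1 (e ▸ (⟨ha, hac⟩ : a ∈ T ⊓ _))
    · exact absurd (fun a ha b hb =>
        Subgroup.mem_centralizer_iff.1 ((e.symm.le hb).2) a ha) hTnc
  have hdec : ∀ m ∈ M, ∃ t ∈ T, ∃ r ∈ R, m = t * r := by
    intro m hm
    have hle : R ≤ Subgroup.normalizer (T : Set H) := fun r hr => by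
      rw [Subgroup.mem_normalizer_iff]
      intro t
      refine ⟨fun ht => hMT r hr.1 t ht, fun ht => ?_⟩
      have h2 := hMT r⁻¹ (inv_mem hr.1) _ ht
      simpa [mul_assoc] using h2
    have : m ∈ ((R ⊔ T : Subgroup H) : Set H) := by rw [sup_comm]; exact hMeq hm
    rw [Subgroup.coe_mul_of_left_le_normalizer_right R T hle] at this
    obtain ⟨r, hr, t, ht, rfl⟩ := this
    exact ⟨t, ht, r, hr, (hcomm t ht r hr).symm⟩
  have hTsimple : IsSimpleGroup T := by
    haveI : Nontrivial T := (Subgroup.nontrivial_iff_ne_bot T).2 hT1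
    refine ⟨fun N hN => ?_⟩
    have hmap : ∀ m ∈ M, ∀ a ∈ N.map T.subtype, m * a * m⁻¹ ∈ N.map T.subtype := by
      rintro m hm _ ⟨a, ha, rfl⟩
      obtain ⟨t, ht, r, hr, rfl⟩ := hdec m hm
      refine ⟨_, hN.conj_mem a ha ⟨t, ht⟩, ?_⟩
      have h1 := hcomm a a.2 r hr
      show t * (a : H) * t⁻¹ = t * r * a * (t * r)⁻¹
      calc t * (a : H) * t⁻¹ = t * (a * r) * r⁻¹ * t⁻¹ := by group
        _ = t * r * a * (t * r)⁻¹ := by rw [h1]; group
    rcases hTmin _ (Subgroup.map_subtype_le N) hmap with e | e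
    · exact Or.inl ((Subgroup.map_eq_bot_iff_of_injective _ T.subtype_injective).1 e)
    · right
      apply Subgroup.map_injective T.subtype_injective
      rw [e, ← MonoidHom.range_eq_map, Subgroup.range_subtype]
  -- product type
  have hprod : ∀ v : V, v ≠ 0 → ∀ x ∈ T, ∀ r ∈ R, (x * r) • v = v →
      (∃ t ∈ T, t ≠ 1 ∧ t • v = v) → x • v = v := by
    rintro v hv x hx r hr hxr ⟨t0, ht0, ht01, ht0v⟩
    set Hv := stabilizer H v with hHv
    let πMv : H → Prop := fun a => ∀ t ∈ T, ∀ q ∈ R, a = t * q → ∃ q' ∈ R, (t * q') • v = v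
    let P : Subgroup H :=
      { carrier := {m | m ∈ M ∧ ∀ s ∈ Hv, πMv (s * m * s⁻¹)}
        one_mem' := ⟨one_mem M, fun s _ t ht q hq e => ⟨q, hq, by
          rw [← e, mul_one, mul_inv_cancel, one_smul]⟩⟩
        mul_mem' := by
          rintro a b ⟨haM, ha⟩ ⟨hbM, hb⟩
          refine ⟨mul_mem haM hbM, fun s hs t ht q hq e => ?_⟩
          obtain ⟨t1, ht1, q1, hq1, e1⟩ := hdec _ (hMn.conj_mem a haM s)
          obtain ⟨t2, ht2, q2, hq2, e2⟩ := hdec _ (hMn.conj_mem b hbM s)
          obtain ⟨p1, hp1, h1⟩ := ha s hs t1 ht1 q1 hq1 e1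
          obtain ⟨p2, hp2, h2⟩ := hb s hs t2 ht2 q2 hq2 e2
          have e3 : t * q = (t1 * t2) * (q1 * q2) := by
            calc t * q = s * (a * b) * s⁻¹ := e.symm
              _ = (s * a * s⁻¹) * (s * b * s⁻¹) := by group
              _ = t1 * (q1 * t2) * q2 := by rw [e1, e2]; group
              _ = t1 * (t2 * q1) * q2 := by rw [hcomm t2 ht2 q1 hq1]
              _ = _ := by group
          have e4 : (t1 * t2)⁻¹ * t = (q1 * q2) * q⁻¹ := by
            calc (t1 * t2)⁻¹ * t = (t1 * t2)⁻¹ * (t * q) * q⁻¹ := by group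
              _ = _ := by rw [e3]; group
          have hz : (t1 * t2)⁻¹ * t = 1 := hinf _ (mul_mem (inv_mem (mul_mem ht1 ht2)) ht)
            (e4 ▸ (mul_mem (mul_mem hq1 hq2) (inv_mem hq)).2)
          rw [inv_mul_eq_one] at hz
          refine ⟨p1 * p2, mul_mem hp1 hp2, ?_⟩
          rw [← hz, show t1 * t2 * (p1 * p2) = t1 * (t2 * p1) * p2 by group, hcomm t2 ht2 p1 hp1,
            show t1 * (p1 * t2) * p2 = (t1 * p1) * (t2 * p2) by group, mul_smul, h2, h1]
        inv_mem' := by
          rintro a ⟨haM, ha⟩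
          refine ⟨inv_mem haM, fun s hs t ht q hq e => ?_⟩
          have e1 : s * a * s⁻¹ = t⁻¹ * q⁻¹ := by
            rw [show s * a * s⁻¹ = (s * a⁻¹ * s⁻¹)⁻¹ by group, e, mul_inv_rev]
            exact (hcomm t⁻¹ (inv_mem ht) q⁻¹ (inv_mem hq)).symm
          obtain ⟨p, hp, h1⟩ := ha s hs t⁻¹ (inv_mem ht) q⁻¹ (inv_mem hq) e1
          refine ⟨p⁻¹, inv_mem hp, ?_⟩
          rw [hcomm t ht p⁻¹ (inv_mem hp), show p⁻¹ * t = (t⁻¹ * p)⁻¹ by group, inv_smul_eq_iff, h1] }
    have hMvP : ∀ m ∈ M, m • v = v → m ∈ P := fun m hm hmv => ⟨hm, fun s hs t ht q hq e => ⟨q, hq, by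
      rw [← e, mul_smul, mul_smul, mem_stabilizer_iff.1 (inv_mem hs), hmv, mem_stabilizer_iff.1 hs]⟩⟩
    have hPnorm : Hv ≤ Subgroup.normalizer (P : Set H) := by
      have h : ∀ s ∈ Hv, ∀ m ∈ P, s * m * s⁻¹ ∈ P := fun s hs m hm =>
        ⟨hMn.conj_mem m hm.1 s, fun s' hs' t ht q hq e => hm.2 (s' * s) (mul_mem hs' hs) t ht q hq (by
          rw [← e]; group)⟩
      intro s hs
      rw [Subgroup.mem_normalizer_iff]
      refine fun m => ⟨h s hs m, fun hm => ?_⟩
      simpa [mul_assoc] using h s⁻¹ (inv_mem hs) _ hm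
    have hPv : P ≤ Hv := by
      rcases hy.maxStab v hv (Hv ⊔ P) le_sup_left with e | e
      · exact le_sup_right.trans e.le
      · exfalso
        -- then every element of `T` is a projection
        have hsurj : ∀ t ∈ T, ∃ q ∈ R, (t * q) • v = v := by
          intro t ht
          have h1 : t ∈ ((Hv ⊔ P : Subgroup H) : Set H) := e ▸ mem_top t
          rw [Subgroup.coe_mul_of_left_le_normalizer_right Hv P hPnorm] at h1
          obtain ⟨s, hs, p, hp, hsp⟩ := h1
          have hsM : s ∈ M := by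
            have : s = t * p⁻¹ := by rw [← hsp]; group
            rw [this]; exact mul_mem (hTM ht) (inv_mem hp.1)
          have htP : t ∈ P := hsp ▸ mul_mem (hMvP s hsM hs) hp
          exact htP.2 1 (one_mem _) t ht 1 (one_mem _) (by group)
        have hDn : ∀ m ∈ M, ∀ a ∈ T ⊓ Hv, m * a * m⁻¹ ∈ T ⊓ Hv := by
          intro m hm a ha
          refine Subgroup.mem_inf.2 ⟨hMT m hm a ha.1, ?_⟩
          obtain ⟨t, ht, q, hq, rfl⟩ := hdec m hm
          obtain ⟨q', hq', h'⟩ := hsurj t ht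
          have : t * q * a * (t * q)⁻¹ = (t * q') * a * (t * q')⁻¹ := by
            have h1 := hcomm a ha.1 q hq
            have h2 := hcomm a ha.1 q' hq'
            calc t * q * a * (t * q)⁻¹ = t * (q * a) * q⁻¹ * t⁻¹ := by group
              _ = t * a * t⁻¹ := by rw [← h1]; group
              _ = t * (a * q') * q'⁻¹ * t⁻¹ := by group
              _ = _ := by rw [h2]; group
          rw [this]
          have h'' : t * q' ∈ Hv := h'
          exact mul_mem (mul_mem h'' ha.2) (inv_mem h'')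
        rcases hTmin _ inf_le_left hDn with e' | e'
        · exact ht01 (Subgroup.mem_bot.1 (e' ▸ (⟨ht0, ht0v⟩ : t0 ∈ T ⊓ Hv)))
        · refine hy.not_le_stab hv M hM (hgen _ ?_)
          rintro g _ ⟨b, hb, rfl⟩
          obtain ⟨n, hn, s, hs, hg⟩ := hy.exists_mul hv M hM g
          have hg' : g = s * (s⁻¹ * n * s) := by rw [hg]; group
          set n' := s⁻¹ * n * s with hn'
          have hbv : n' * b * n'⁻¹ ∈ Hv := (e'.symm.le (hMT n' (hMn.conj_mem' n hn s) b hb)).2
          simp only [MulEquiv.coe_toMonoidHom, MulAut.conj_apply]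
          rw [hg', show s * n' * b * (s * n')⁻¹ = s * (n' * b * n'⁻¹) * s⁻¹ by group]
          exact mul_mem (mul_mem hs hbv) (inv_mem hs)
    refine hPv ⟨hTM hx, fun s hs t ht q hq e => ?_⟩
    rcases hconj s with e1 | e1
    · have hsx : s * x * s⁻¹ ∈ T := e1.le ⟨x, hx, rfl⟩
      have hq1 : q = 1 := hinf q (by
          have : q = t⁻¹ * (s * x * s⁻¹) := by rw [e]; group
          rw [this]; exact mul_mem (inv_mem ht) hsx) hq.2
      have hte : t = s * x * s⁻¹ := by rw [e, hq1, mul_one]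
      obtain ⟨t', ht', q', hq', e'⟩ := hdec (s * r * s⁻¹) (hMn.conj_mem r hr.1 s)
      have hsr : s * r * s⁻¹ ∈ R := by
        refine ⟨hMn.conj_mem r hr.1 s, Subgroup.mem_centralizer_iff.2 fun b hb => ?_⟩
        obtain ⟨c, hc, rfl⟩ := e1.symm.le hb
        simp only [MulEquiv.coe_toMonoidHom, MulAut.conj_apply]
        calc s * c * s⁻¹ * (s * r * s⁻¹) = s * (c * r) * s⁻¹ := by group
          _ = s * (r * c) * s⁻¹ := by rw [hcomm c hc r hr]
          _ = _ := by group
      refine ⟨s * r * s⁻¹, hsr, ?_⟩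
      rw [hte, show s * x * s⁻¹ * (s * r * s⁻¹) = s * (x * r) * s⁻¹ by group, mul_smul, mul_smul,
        mem_stabilizer_iff.1 (inv_mem hs), hxr, mem_stabilizer_iff.1 hs]
    · have hsx : s * x * s⁻¹ ∈ R := e1 ⟨x, hx, rfl⟩
      have ht1 : t = 1 := hinf t ht (by
        have : t = (s * x * s⁻¹) * q⁻¹ := by rw [e]; group
        rw [this]; exact (mul_mem hsx (inv_mem hq)).2)
      exact ⟨1, one_mem _, by rw [ht1, mul_one, one_smul]⟩
  -- irreducibility of `M`
  have hirr : ∀ L : AddSubgroup V, Inv T L → Inv R L → L = ⊥ ∨ L = ⊤ := by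
    intro L hLT hLR
    refine or_iff_not_imp_left.2 fun hL => top_le_iff.1 ?_
    have hLM : Inv M L := fun m hm => (hLT.sup hLR) m (hMeq hm)
    obtain ⟨L0, hL0, hle, hL0M, hL0min⟩ := exists_minimal_inv hL hLM
    obtain ⟨v, hvL, hv⟩ : ∃ v ∈ L0, v ≠ 0 := by
      by_contra hc; push Not at hc
      exact hL0 ((AddSubgroup.eq_bot_iff_forall _).2 hc)
    let K : Subgroup H := stabilizer H (L0 : Set V)
    have hsK : stabilizer H v ≤ K := by
      have h : ∀ s ∈ stabilizer H v, ∀ w ∈ L0, s • w ∈ L0 := by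
        intro s hs
        let I : AddSubgroup V :=
          { carrier := {w | w ∈ L0 ∧ s • w ∈ L0}
            zero_mem' := ⟨L0.zero_mem, by rw [smul_zero]; exact L0.zero_mem⟩
            add_mem' := fun {a b} ha hb => ⟨L0.add_mem ha.1 hb.1, by
              rw [smul_add]; exact L0.add_mem ha.2 hb.2⟩
            neg_mem' := fun {a} ha => ⟨L0.neg_mem ha.1, by rw [smul_neg]; exact L0.neg_mem ha.2⟩ }
        have hI : Inv M I := fun m hm w hw => ⟨hL0M m hm w hw.1, by
          rw [smul_smul, show s * m = (s * m * s⁻¹) * s by group, mul_smul]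
          exact hL0M _ (hMn.conj_mem m hm s) _ hw.2⟩
        rcases hL0min I (fun w hw => hw.1) hI with e | e
        · exact absurd (AddSubgroup.mem_bot.1 (e ▸ (⟨hvL, by
            rw [mem_stabilizer_iff.1 hs]; exact hvL⟩ : v ∈ I))) hv
        · exact fun w hw => (e.symm.le hw).2
      intro s hs
      show s ∈ stabilizer H (L0 : Set V)
      rw [mem_stabilizer_set]
      intro w
      exact ⟨fun hw => by simpa using h s⁻¹ (inv_mem hs) _ hw, h s hs w⟩
    rcases hy.maxStab v hv K hsK with e | e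
    · exfalso
      refine hy.not_le_stab hv M hM ?_
      rw [← e]
      intro m hm
      show m ∈ stabilizer H (L0 : Set V)
      rw [mem_stabilizer_set]
      exact fun w => ⟨fun hw => by simpa using hL0M m⁻¹ (inv_mem hm) _ hw, hL0M m hm w⟩
    · have hinv : Inv (⊤ : Subgroup H) L0 := fun g _ w hw => by
        have hgK : g ∈ K := by rw [e]; exact mem_top g
        exact (mem_stabilizer_set.1 hgK w).2 hw
      rw [← (hy.irr L0 hinv).resolve_left hL0]
      exact hle
  have hnofix : ∀ v : V, (∀ t ∈ T, t • v = v) → v = 0 := by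
    intro v hv
    let L : AddSubgroup V :=
      { carrier := {w | ∀ t ∈ T, t • w = w}
        zero_mem' := fun t _ => smul_zero t
        add_mem' := fun {a b} ha hb t ht => by rw [smul_add, ha t ht, hb t ht]
        neg_mem' := fun {a} ha t ht => by rw [smul_neg, ha t ht] }
    rcases hirr L (fun t ht w hw => by rw [hw t ht]; exact hw) (fun r hr w hw t ht => by
        rw [smul_smul, hcomm t ht r hr, mul_smul, hw t ht]) with e | e
    · exact AddSubgroup.mem_bot.1 (e ▸ (show v ∈ L from hv))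
    · exfalso
      refine hT1 ((Subgroup.eq_bot_iff_forall _).2 fun t ht => hy.faithful t fun w => ?_)
      exact ((e.symm ▸ AddSubgroup.mem_top w : w ∈ L)) t ht
  obtain ⟨g, hg⟩ : ∃ g : H, ∀ t ∈ T, g * t * g⁻¹ ∈ R := by
    by_contra hc
    push Not at hc
    refine hT0top ?_
    have hall : M ≤ T := hgen T fun g => (hconj g).elim (fun e => e.le) fun e => by
      obtain ⟨t, ht, hnt⟩ := hc g
      exact absurd (e ⟨t, ht, rfl⟩) hnt
    apply Subgroup.map_injective M.subtype_injective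
    rw [← hTdef, ← MonoidHom.range_eq_map, Subgroup.range_subtype]
    exact le_antisymm hTM hall
  exact Pair.false (V := V) (T := T) (R := R)
    { exp := hy.exp
      comm := hcomm
      prod := hprod
      irr := hirr
      twist := ⟨g, hg⟩
      nofix := hnofix
      simple := hTsimple
      nonab := fun hc => hTnc fun a ha b hb =>
        congrArg Subtype.val (hc.is_comm.comm ⟨a, ha⟩ ⟨b, hb⟩) }

end Hyp

end Cfsg.Agent.Grp.ExtPrimAffine
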