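import Cfsg.Agent.Lib.Grp.ExtPrimAffine.Count
import Cfsg.Agent.Lib.Grp.Basic
import Cfsg.Agent.Lib.Grp.Cores

/-!
# The point stabiliser of an extremely primitive affine group is almost simple
-/

set_option autoImplicit false

universe u v

namespace Cfsg.Agent.Grp.ExtPrimAffine

open MulAction Subgroup
open scoped Pointwise

variable {H : Type u} [Group H] {V : Type v} [AddCommGroup V] [DistribMulAction H V]

variable (H V) in
/-- A group acting on a 2-group `V`, faithfully, irreducibly, with maximal stabilisers. -/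
structure Hyp : Prop where
  exp : ∀ v : V, v + v = 0
  faithful : ∀ h : H, (∀ v : V, h • v = v) → h = 1
  irr : ∀ L : AddSubgroup V, Inv (⊤ : Subgroup H) L → L = ⊥ ∨ L = ⊤
  maxStab : ∀ v : V, v ≠ 0 → ∀ K : Subgroup H, stabilizer H v ≤ K → K = stabilizer H v ∨ K = ⊤
  nsol : ¬ Group.IsSolvable H

namespace Hyp

variable (hy : Hyp H V)
include hy

/-- An element fixing the orbit of a nonzero vector is trivial. -/
theorem eq_one_of_orbit {v : V} (hv : v ≠ 0) {m : H} (hm : ∀ h : H, m • (h • v) = h • v) :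
    m = 1 := by
  let L : AddSubgroup V := AddSubgroup.closure (MulAction.orbit H v)
  have hL : Inv (⊤ : Subgroup H) L := by
    intro h _ w hw
    induction hw using AddSubgroup.closure_induction with
    | mem x hx => exact AddSubgroup.subset_closure (by
        obtain ⟨k, rfl⟩ := hx; exact ⟨h * k, mul_smul h k v⟩)
    | zero => rw [smul_zero]; exact L.zero_mem
    | add x y _ _ hx hy => rw [smul_add]; exact L.add_mem hx hy
    | neg x _ hx => rw [smul_neg]; exact L.neg_mem hx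
  have htop : L = ⊤ := (hy.irr L hL).resolve_left fun e => hv (AddSubgroup.mem_bot.1
    (e ▸ AddSubgroup.subset_closure (MulAction.mem_orbit_self v)))
  refine hy.faithful m fun w => ?_
  have hle : L ≤ fix m := by
    rw [AddSubgroup.closure_le]
    rintro _ ⟨h, rfl⟩
    exact hm h
  exact hle (htop ▸ AddSubgroup.mem_top w)

theorem stab_ne_top {v : V} (hv : v ≠ 0) : stabilizer H v ≠ ⊤ := fun e => hy.nsol (by
  haveI : Subsingleton H := ⟨fun a b => by
    have h1 : ∀ m : H, m = 1 := fun m => hy.eq_one_of_orbit hv fun h => by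
      have hh : h • v = v := (e ▸ mem_top h : h ∈ stabilizer H v)
      have hm : m • v = v := (e ▸ mem_top m : m ∈ stabilizer H v)
      rw [hh, hm]
    rw [h1 a, h1 b]⟩
  infer_instance)

theorem not_le_stab {v : V} (hv : v ≠ 0) (N : Subgroup H) [N.Normal] (hN : N ≠ ⊥) :
    ¬ N ≤ stabilizer H v := fun hle => hN ((Subgroup.eq_bot_iff_forall _).2 fun m hm =>
  hy.eq_one_of_orbit hv fun h => by
    have h1 : (h⁻¹ * m * h) • v = v := hle (Subgroup.Normal.conj_mem' inferInstance m hm h)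
    rwa [mul_smul, mul_smul, inv_smul_eq_iff] at h1)

theorem exists_mul {v : V} (hv : v ≠ 0) (N : Subgroup H) [N.Normal] (hN : N ≠ ⊥) (h : H) :
    ∃ n ∈ N, ∃ s : H, s • v = v ∧ h = n * s := by
  rcases hy.maxStab v hv (stabilizer H v ⊔ N) le_sup_left with e | e
  · exact absurd (le_sup_right.trans e.le) (hy.not_le_stab hv N hN)
  · have h1 : h ∈ ((N ⊔ stabilizer H v : Subgroup H) : Set H) := by
      rw [sup_comm, e]; exact mem_top h
    rw [Subgroup.normal_mul] at h1
    obtain ⟨n, hn, s, hs, rfl⟩ := h1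
    exact ⟨n, hn, s, hs, rfl⟩

/-- An element commuting with a nontrivial normal subgroup and fixing a nonzero vector is trivial. -/
theorem eq_one_of_commute {v : V} (hv : v ≠ 0) (N : Subgroup H) [N.Normal] (hN : N ≠ ⊥) {c : H}
    (hc : c • v = v) (hcN : ∀ n ∈ N, n * c = c * n) : c = 1 :=
  hy.eq_one_of_orbit hv fun h => by
    obtain ⟨n, hn, s, hs, rfl⟩ := hy.exists_mul hv N hN h
    rw [mul_smul, hs, smul_smul, ← hcN n hn, mul_smul, hc]

theorem exists_fixed_of_involution [Nontrivial V] {x : H} (hx : x * x = 1) :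
    ∃ v : V, v ≠ 0 ∧ x • v = v := by
  obtain ⟨u, hu⟩ := exists_ne (0 : V)
  by_cases h : x • u = u
  · exact ⟨u, hu, h⟩
  · refine ⟨u + x • u, fun e => h ((add_eq_zero_iff_eq_two hy.exp).1 e).symm, ?_⟩
    rw [smul_add, smul_smul, hx, one_smul, add_comm]

theorem odd_of_semiregular [Finite H] [Nontrivial V] (N : Subgroup H)
    (h : ∀ n ∈ N, ∀ v : V, v ≠ 0 → n • v = v → n = 1) : Odd (Nat.card N) := by
  haveI := Fact.mk Nat.prime_two
  refine Nat.odd_iff.2 (Nat.two_dvd_ne_zero.1 fun hd => ?_)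
  obtain ⟨x, hx⟩ := exists_prime_orderOf_dvd_card' 2 hd
  have hxx : (x : H) * x = 1 := by
    rw [← pow_two, ← hx, ← Subgroup.orderOf_coe, pow_orderOf_eq_one]
  obtain ⟨v, hv, hxv⟩ := hy.exists_fixed_of_involution hxx
  have hx1 : x = 1 := Subtype.ext (h x x.2 v hv hxv)
  rw [hx1, orderOf_one] at hx
  omega

/-- A minimal normal subgroup is not abelian. -/
theorem not_comm [Finite H] [Nontrivial V] (M : Subgroup H) [M.Normal] (hM : M ≠ ⊥)
    (hmin : ∀ K : Subgroup H, K.Normal → K ≤ M → K = ⊥ ∨ K = M) :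
    ¬ IsMulCommutative M := by
  intro hc
  have hcomm : ∀ a ∈ M, ∀ b ∈ M, a * b = b * a := fun a ha b hb =>
    congrArg Subtype.val (hc.is_comm.comm ⟨a, ha⟩ ⟨b, hb⟩)
  have hsemi : ∀ n ∈ M, ∀ v : V, v ≠ 0 → n • v = v → n = 1 := fun n hn v hv hnv =>
    hy.eq_one_of_commute hv M hM hnv (fun m hm => hcomm m hm n hn)
  haveI : Nontrivial M := (Subgroup.nontrivial_iff_ne_bot M).2 hM
  obtain ⟨r, hr, hdvd⟩ := Nat.exists_prime_and_dvd (Finite.one_lt_card (α := M)).ne'
  haveI := Fact.mk hr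
  have hrodd : Odd r := Odd.of_dvd_nat (hy.odd_of_semiregular M hsemi) hdvd
  obtain ⟨b, hb⟩ := exists_prime_orderOf_dvd_card' r hdvd
  -- exponent `r`
  let P : Subgroup H :=
    { carrier := {m | m ∈ M ∧ m ^ r = 1}
      one_mem' := ⟨one_mem M, one_pow r⟩
      mul_mem' := fun {a c} ha hc' => ⟨mul_mem ha.1 hc'.1, by
        rw [(show Commute a c from hcomm a ha.1 c hc'.1).mul_pow, ha.2, hc'.2, one_mul]⟩
      inv_mem' := fun {a} ha => ⟨inv_mem ha.1, by rw [inv_pow, ha.2, inv_one]⟩ }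
  have hPn : P.Normal := ⟨fun m hm g =>
    ⟨Subgroup.Normal.conj_mem inferInstance m hm.1 g, by rw [conj_pow, hm.2, mul_one, mul_inv_cancel]⟩⟩
  have hbP : (b : H) ∈ P := ⟨b.2, by rw [← hb, ← Subgroup.orderOf_coe, pow_orderOf_eq_one]⟩
  have hb1 : (b : H) ≠ 1 := fun e => by
    rw [← Subgroup.orderOf_coe, e, orderOf_one] at hb; exact hr.ne_one hb.symm
  have hP : P = M := (hmin P hPn fun m hm => hm.1).resolve_left fun e => hb1 (mem_bot.1 (e ▸ hbP))
  have hexp : ∀ m ∈ M, m ^ r = 1 := fun m hm => ((hP.symm ▸ hm : m ∈ P)).2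
  -- cyclic
  have hcyc : ∀ a ∈ M, a ∈ Subgroup.zpowers (b : H) := by
    intro a ha
    obtain ⟨u, hu⟩ := exists_ne (0 : V)
    obtain ⟨j, w, -, hw0, hw⟩ := exists_fix_mul_pow hy.exp (show Commute a b from hcomm a ha b b.2)
      hr hrodd (⊤ : AddSubgroup V) (fun _ _ => AddSubgroup.mem_top _) (fun _ _ => AddSubgroup.mem_top _)
      (fun v _ => by rw [hexp a ha, one_smul]) (fun v _ => by rw [hexp b b.2, one_smul])
      (fun v _ hv => by_contra fun h0 => hb1 (hsemi b b.2 v h0 hv)) (AddSubgroup.mem_top u) hu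
    have := hsemi _ (mul_mem ha (pow_mem b.2 j)) w hw0 hw
    rw [mul_eq_one_iff_eq_inv] at this
    rw [this]
    exact inv_mem (pow_mem (Subgroup.mem_zpowers _) j)
  let f : H →* MulAut M := MulAut.conjNormal
  have hker : ∀ k ∈ f.ker, ∀ m ∈ M, m * k = k * m := by
    intro k hk m hm
    have h1 : ((f k) ⟨m, hm⟩ : H) = m := by rw [f.mem_ker.1 hk]; rfl
    rw [MulAut.conjNormal_apply] at h1
    exact (mul_inv_eq_iff_eq_mul.1 h1).symm
  have hkerM : f.ker ≤ M := by
    intro k hk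
    obtain ⟨u, hu⟩ := exists_ne (0 : V)
    obtain ⟨n, hn, s, hs, rfl⟩ := hy.exists_mul hu M hM k
    have : s = 1 := hy.eq_one_of_commute hu M hM hs fun m hm => by
      have h1 := hker _ hk m hm
      rw [← mul_assoc, hcomm m hm n hn, mul_assoc, mul_assoc] at h1
      exact mul_left_cancel h1
    rw [this, mul_one]
    exact hn
  have hrange : ∀ φ ψ : MulAut M, φ * ψ = ψ * φ := by
    intro φ ψ
    refine MulEquiv.ext fun m => ?_
    show φ (ψ m) = ψ (φ m)
    obtain ⟨i, hi⟩ := hcyc _ (φ b).2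
    obtain ⟨k, hk⟩ := hcyc _ (ψ b).2
    obtain ⟨l, hl⟩ := hcyc _ m.2
    have hi' : φ b = b ^ i := Subtype.ext (by rw [Subgroup.coe_zpow]; exact hi.symm)
    have hk' : ψ b = b ^ k := Subtype.ext (by rw [Subgroup.coe_zpow]; exact hk.symm)
    have hl' : m = b ^ l := Subtype.ext (by rw [Subgroup.coe_zpow]; exact hl.symm)
    subst hl'
    simp only [map_zpow, hi', hk']
    rw [← zpow_mul, ← zpow_mul, ← zpow_mul, ← zpow_mul]
    congr 1
    ring
  haveI : Group.IsSolvable f.ker := Group.isSolvable_of_comm fun a c =>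
    Subtype.ext (hcomm a (hkerM a.2) c (hkerM c.2))
  haveI : Group.IsSolvable f.range := Group.isSolvable_of_comm fun a c => Subtype.ext (hrange a.1 c.1)
  exact hy.nsol (Group.isSolvable_of_ker_le_range f.ker.subtype f.rangeRestrict (by
    rw [Subgroup.range_subtype, MonoidHom.ker_rangeRestrict]))

end Hyp

end Cfsg.Agent.Grp.ExtPrimAffine
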